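import Mathlib
import Cfsg.Agent.Lib.Helper46.Qd2

/-! Sylow `p`-subgroups of `Qd`. -/

set_option autoImplicit false

namespace Cfsg.Agent.Lib.Helper46.Qd

open Matrix Cfsg.Agent.Lib.Helper46.SL2Nat

variable {F : Type*} [Field F]

/-- The unitriangular subgroup of `Qd`. -/
def U3 (F : Type*) [Field F] : Subgroup ↥(Cfsg.qdOver F) := (U F).comap (blkHom F)

lemma mem_U3 {M : ↥(Cfsg.qdOver F)} : M ∈ U3 F ↔ blk M ∈ U F := Iff.rfl

lemma isPGroup_U3 (p : ℕ) [CharP F p] : IsPGroup p (U3 F) :=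
  (isPGroup_U p).comap_of_ker_isPGroup (blkHom F) (isPGroup_ker p)

lemma sylow_eq_conj_U3 [Finite F] (p : ℕ) [Fact p.Prime] [CharP F p]
    (S : Sylow p ↥(Cfsg.qdOver F)) :
    ∃ g : ↥(Cfsg.qdOver F), (S : Subgroup ↥(Cfsg.qdOver F)) = (U3 F).map (MulAut.conj g).toMonoidHom := by
  obtain ⟨h, hh⟩ := exists_conj_le_U p ((S : Subgroup ↥(Cfsg.qdOver F)).map (blkHom F)) (S.2.map _)
  refine ⟨mk h 0, ?_⟩
  have hle : (S : Subgroup ↥(Cfsg.qdOver F)) ≤ (U3 F).map (MulAut.conj (mk h 0)).toMonoidHom := by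
    intro x hx
    refine ⟨(mk h 0)⁻¹ * x * mk h 0, ?_, ?_⟩
    · rw [SetLike.mem_coe, mem_U3, blk_mul, blk_mul, blk_inv, blk_mk]
      exact hh _ ⟨x, hx, rfl⟩
    · simp [MulAut.conj_apply, mul_assoc]
  exact (S.3 ((isPGroup_U3 p).map _) hle).symm

/-- elements of `U3` -/
def hh (a : F) (v : Fin 2 → F) : ↥(Cfsg.qdOver F) := mk (u a) v

lemma hh_mem (a : F) (v : Fin 2 → F) : hh a v ∈ U3 F := by
  rw [mem_U3, hh, blk_mk]; exact u_mem a

lemma eq_hh_of_mem {M : ↥(Cfsg.qdOver F)} (hM : M ∈ U3 F) : M = hh (blk M 0 1) (tr M) := by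
  rw [hh, ← eq_u_of_mem (mem_U3.1 hM), mk_blk_tr]

lemma hh_mul (a b : F) (v w : Fin 2 → F) :
    hh a v * hh b w = hh (a + b) ![w 0 + a * w 1 + v 0, w 1 + v 1] := by
  rw [hh, hh, mk_mul_mk, ← u_add, hh]
  congr 1
  apply vec_ext
  · rw [Pi.add_apply, mulVec_0]; simp
  · rw [Pi.add_apply, mulVec_1]; simp

lemma hh_injective {a b : F} {v w : Fin 2 → F} (h : hh a v = hh b w) : a = b ∧ v = w := by
  have h1 := congrArg blk h
  have h2 := congrArg tr h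
  simp only [hh, blk_mk, tr_mk] at h1 h2
  exact ⟨u_injective h1, h2⟩

lemma hh_zero : hh (0 : F) 0 = 1 := by rw [hh, u_zero, mk_one_zero]

@[simp] lemma blk_hh (a : F) (v : Fin 2 → F) : blk (hh a v) = u a := blk_mk _ _
@[simp] lemma tr_hh (a : F) (v : Fin 2 → F) : tr (hh a v) = v := tr_mk _ _

/-- the swap map on `U3` -/
def swapFun (M : ↥(U3 F)) : ↥(U3 F) :=
  ⟨hh (tr (M : ↥(Cfsg.qdOver F)) 1)
    ![blk (M : ↥(Cfsg.qdOver F)) 0 1 * tr (M : ↥(Cfsg.qdOver F)) 1 - tr (M : ↥(Cfsg.qdOver F)) 0,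
      blk (M : ↥(Cfsg.qdOver F)) 0 1], hh_mem _ _⟩

lemma swapFun_hh (a : F) (v : Fin 2 → F) :
    swapFun ⟨hh a v, hh_mem a v⟩ = ⟨hh (v 1) ![a * v 1 - v 0, a], hh_mem _ _⟩ := by
  apply Subtype.ext
  simp only [swapFun, blk_hh, tr_hh, u_01]

lemma swapFun_swapFun (M : ↥(U3 F)) : swapFun (swapFun M) = M := by
  obtain ⟨M, hM⟩ := M
  have h := eq_hh_of_mem hM
  generalize blk M 0 1 = a at h
  generalize tr M = v at h
  subst h
  rw [swapFun_hh, swapFun_hh]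
  apply Subtype.ext
  simp only [Matrix.cons_val_zero, Matrix.cons_val_one]
  congr 1
  apply vec_ext
  · simp only [Matrix.cons_val_zero]; ring
  · simp

lemma swapFun_mul (M N : ↥(U3 F)) : swapFun (M * N) = swapFun M * swapFun N := by
  obtain ⟨M, hM⟩ := M
  obtain ⟨N, hN⟩ := N
  have h := eq_hh_of_mem hM
  generalize blk M 0 1 = a at h
  generalize tr M = v at h
  subst h
  have h := eq_hh_of_mem hN
  generalize blk N 0 1 = b at h
  generalize tr N = w at h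
  subst h
  have h1 : (⟨hh a v, hM⟩ * ⟨hh b w, hN⟩ : ↥(U3 F)) =
      ⟨hh (a + b) ![w 0 + a * w 1 + v 0, w 1 + v 1], hh_mem _ _⟩ := Subtype.ext (hh_mul a b v w)
  rw [h1, swapFun_hh, swapFun_hh, swapFun_hh]
  apply Subtype.ext
  simp only [Subgroup.coe_mul, hh_mul, Matrix.cons_val_zero, Matrix.cons_val_one]
  congr 1
  · ring
  · apply vec_ext
    · simp only [Matrix.cons_val_zero]; ring
    · simp [add_comm]

/-- the swap automorphism of `U3`. -/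
def swapAut (F : Type*) [Field F] : ↥(U3 F) ≃* ↥(U3 F) where
  toFun := swapFun
  invFun := swapFun
  left_inv := swapFun_swapFun
  right_inv := swapFun_swapFun
  map_mul' := swapFun_mul

lemma swapAut_hh (a : F) (v : Fin 2 → F) :
    swapAut F ⟨hh a v, hh_mem a v⟩ = ⟨hh (v 1) ![a * v 1 - v 0, a], hh_mem _ _⟩ := swapFun_hh a v

/-- upper triangular linear part normalizes `U3` -/
lemma conj_mem_U3 {g : ↥(Cfsg.qdOver F)} (hg : blk g 1 0 = 0) {x : ↥(Cfsg.qdOver F)} (hx : x ∈ U3 F) :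
    g * x * g⁻¹ ∈ U3 F := by
  rw [mem_U3] at hx ⊢
  rw [blk_mul, blk_mul, blk_inv, eq_u_of_mem hx]
  have hd := det2 (blk g)
  rw [hg] at hd
  constructor
  · rw [mul_00, mul_00, mul_01, inv_00, inv_10, hg]
    simp only [u_00, u_01, u_10, u_11]
    linear_combination hd
  · rw [mul_10, mul_10, mul_11, inv_00, inv_10, hg]
    simp

lemma mem_normalizer_U3 {g : ↥(Cfsg.qdOver F)} (hg : blk g 1 0 = 0) :
    g ∈ Subgroup.normalizer ((U3 F : Subgroup ↥(Cfsg.qdOver F)) : Set ↥(Cfsg.qdOver F)) := by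
  rw [Subgroup.mem_normalizer_iff]
  intro x
  refine ⟨conj_mem_U3 hg, fun h => ?_⟩
  have h2 : blk g⁻¹ 1 0 = 0 := by rw [blk_inv, inv_10, hg, neg_zero]
  have := conj_mem_U3 h2 h
  simpa [mul_assoc] using this

/-- the `(1,0)` entry of the linear part of `g h(a,v) g⁻¹`. -/
lemma blk_conj_hh_10 (g : ↥(Cfsg.qdOver F)) (a : F) (v : Fin 2 → F) :
    blk (g * hh a v * g⁻¹) 1 0 = - (blk g 1 0) ^ 2 * a := by
  rw [blk_mul, blk_mul, blk_inv, blk_hh, mul_10, mul_10, mul_11, inv_00, inv_10]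
  simp only [u_00, u_01, u_10, u_11]
  ring

lemma hh_zero_pow (v : Fin 2 → F) (n : ℕ) : (hh 0 v) ^ n = hh 0 (n • v) := by
  rw [hh, u_zero, mk_one_pow, hh, u_zero]

end Cfsg.Agent.Lib.Helper46.Qd
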