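import Mathlib

/-! Characteristic subgroups of a subgroup: normalizers and transport along automorphisms. -/

set_option autoImplicit false

namespace Cfsg.Agent.Lib.Helper46.CharSub

variable {G : Type*} [Group G]

/-- conjugation by an element of the normalizer as an automorphism of the subgroup -/
def conjEquiv (H : Subgroup G) (g : G) (hg : g ∈ Subgroup.normalizer (H : Set G)) : H ≃* H where
  toFun x := ⟨g * x * g⁻¹, (Subgroup.mem_normalizer_iff.1 hg x).1 x.2⟩
  invFun x := ⟨g⁻¹ * x * g, by
    have := (Subgroup.mem_normalizer_iff.1 (inv_mem hg) x).1 x.2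
    simpa using this⟩
  left_inv x := by apply Subtype.ext; simp [mul_assoc]
  right_inv x := by apply Subtype.ext; simp [mul_assoc]
  map_mul' x y := by apply Subtype.ext; simp [mul_assoc]

theorem mem_iff_of_characteristic {H : Type*} [Group H] {T : Subgroup H} (hT : T.Characteristic)
    (φ : H ≃* H) (x : H) : φ x ∈ T ↔ x ∈ T := by
  have := hT.fixed φ
  conv_rhs => rw [← this]
  rfl

theorem normalizer_le_of_characteristic (H : Subgroup G) (T : Subgroup H) (hT : T.Characteristic) :
    Subgroup.normalizer (H : Set G) ≤ Subgroup.normalizer ((T.map H.subtype : Subgroup G) : Set G) := by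
  have key : ∀ g ∈ Subgroup.normalizer (H : Set G), ∀ x ∈ T.map H.subtype,
      g * x * g⁻¹ ∈ T.map H.subtype := by
    rintro g hg _ ⟨x, hx, rfl⟩
    exact ⟨conjEquiv H g hg x, (mem_iff_of_characteristic hT _ x).2 hx, rfl⟩
  intro g hg
  rw [Subgroup.mem_normalizer_iff]
  intro x
  refine ⟨key g hg x, fun h => ?_⟩
  have := key g⁻¹ (inv_mem hg) _ h
  simpa [mul_assoc] using this

/-- transport of a characteristic subgroup along an automorphism of the ambient group -/
theorem exists_transport (φ : G ≃* G) (H : Subgroup G) (T : Subgroup ↥(H.map φ.toMonoidHom))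
    (hT : T.Characteristic) (hT1 : T ≠ ⊥) :
    ∃ T₀ : Subgroup H, T₀.Characteristic ∧ T₀ ≠ ⊥ ∧
      (T₀.map H.subtype).map φ.toMonoidHom = T.map (H.map φ.toMonoidHom).subtype := by
  obtain ⟨e, he⟩ : ∃ e : H ≃* ↥(H.map φ.toMonoidHom), ∀ x : H, ((e x : ↥(H.map φ.toMonoidHom)) : G) = φ x :=
    ⟨φ.subgroupMap H, fun _ => rfl⟩
  refine ⟨T.comap e.toMonoidHom, ⟨fun ψ => ?_⟩, ?_, ?_⟩
  · ext x
    simp only [Subgroup.mem_comap, MulEquiv.coe_toMonoidHom]
    have := mem_iff_of_characteristic hT ((e.symm.trans ψ).trans e) (e x)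
    simp only [MulEquiv.trans_apply, MulEquiv.symm_apply_apply] at this
    exact this
  · intro h
    apply hT1
    rw [eq_bot_iff]
    intro y hy
    have : e.symm y ∈ T.comap e.toMonoidHom := by
      rw [Subgroup.mem_comap, MulEquiv.coe_toMonoidHom, MulEquiv.apply_symm_apply]
      exact hy
    rw [h, Subgroup.mem_bot] at this
    rw [Subgroup.mem_bot]
    have h2 := congrArg e this
    rw [MulEquiv.apply_symm_apply, map_one] at h2
    exact h2
  · ext y
    constructor
    · rintro ⟨_, ⟨x, hx, rfl⟩, rfl⟩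
      exact ⟨e x, hx, he x⟩
    · rintro ⟨y, hy, rfl⟩
      refine ⟨(e.symm y : H), ⟨e.symm y, ?_, rfl⟩, ?_⟩
      · rw [SetLike.mem_coe, Subgroup.mem_comap, MulEquiv.coe_toMonoidHom, MulEquiv.apply_symm_apply]
        exact hy
      · have : e (e.symm y) = y := e.apply_symm_apply y
        rw [MulEquiv.coe_toMonoidHom, ← he, this]
        rfl

theorem normalizer_transport (φ : G ≃* G) (H : Subgroup G)
    (hP : ∀ T : Subgroup H, T ≠ ⊥ → T.Characteristic →
      Subgroup.normalizer ((T.map H.subtype : Subgroup G) : Set G) = Subgroup.normalizer (H : Set G))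
    (T : Subgroup ↥(H.map φ.toMonoidHom)) (hT1 : T ≠ ⊥) (hT : T.Characteristic) :
    Subgroup.normalizer ((T.map (H.map φ.toMonoidHom).subtype : Subgroup G) : Set G)
      = Subgroup.normalizer ((H.map φ.toMonoidHom : Subgroup G) : Set G) := by
  obtain ⟨T₀, hc, h1, h2⟩ := exists_transport φ H T hT hT1
  rw [← h2, ← Subgroup.map_equiv_normalizer_eq, ← Subgroup.map_equiv_normalizer_eq, hP T₀ h1 hc]

theorem normalizer_ne_top_transport (φ : G ≃* G) (H : Subgroup G)
    (hP : Subgroup.normalizer (H : Set G) ≠ ⊤) :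
    Subgroup.normalizer ((H.map φ.toMonoidHom : Subgroup G) : Set G) ≠ ⊤ := by
  rw [← Subgroup.map_equiv_normalizer_eq]
  intro h
  apply hP
  rw [eq_top_iff]
  intro x _
  have : φ x ∈ (Subgroup.normalizer (H : Set G)).map φ.toMonoidHom := by rw [h]; trivial
  obtain ⟨y, hy, hyx⟩ := this
  have : y = x := φ.injective hyx
  rw [← this]; exact hy

end Cfsg.Agent.Lib.Helper46.CharSub
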