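import Mathlib
import Cfsg.Agent.Lib.Helper46.Qd3
import Cfsg.Agent.Lib.Helper46.CharSub

/-! Characteristic subgroups of a Sylow `p`-subgroup of `Qd(p)`. -/

set_option autoImplicit false

namespace Cfsg.Agent.Lib.Helper46.Qd

open Matrix Cfsg.Agent.Lib.Helper46.SL2Nat Cfsg.Agent.Lib.Helper46.CharSub

section general
variable {F : Type*} [Field F]

lemma hh_zero_mul (v w : Fin 2 → F) : hh 0 v * hh 0 w = hh 0 (v + w) := by
  rw [hh_mul]
  congr 1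
  · ring
  · apply vec_ext
    · simp [add_comm]
    · simp [add_comm]

lemma caseA (T : Subgroup ↥(U3 F)) (hTn : T.Normal) (v : Fin 2 → F) (htU : hh 0 v ∈ U3 F)
    (htT : (⟨hh 0 v, htU⟩ : ↥(U3 F)) ∈ T) : (⟨hh 0 ![v 1, 0], hh_mem _ _⟩ : ↥(U3 F)) ∈ T := by
  set s : ↥(U3 F) := ⟨hh 1 0, hh_mem _ _⟩ with hs
  set t : ↥(U3 F) := ⟨hh 0 v, htU⟩ with ht
  have h1 : s * t * s⁻¹ * t⁻¹ ∈ T := T.mul_mem (hTn.conj_mem t htT s) (T.inv_mem htT)
  have h2 : s * t * s⁻¹ * t⁻¹ = ⟨hh 0 ![v 1, 0], hh_mem _ _⟩ := by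
    rw [mul_inv_eq_iff_eq_mul, mul_inv_eq_iff_eq_mul]
    apply Subtype.ext
    simp only [hs, ht, Subgroup.coe_mul, hh_mul]
    congr 1
    · ring
    · apply vec_ext
      · simp
      · simp
  rw [← h2]; exact h1

lemma caseB (T : Subgroup ↥(U3 F)) (hTn : T.Normal) (a : F) (v : Fin 2 → F) (htU : hh a v ∈ U3 F)
    (htT : (⟨hh a v, htU⟩ : ↥(U3 F)) ∈ T) : (⟨hh 0 ![a, 0], hh_mem _ _⟩ : ↥(U3 F)) ∈ T := by
  set s : ↥(U3 F) := ⟨hh 0 ![0, 1], hh_mem _ _⟩ with hs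
  set t : ↥(U3 F) := ⟨hh a v, htU⟩ with ht
  have h1 : t * (s * t⁻¹ * s⁻¹) ∈ T := T.mul_mem htT (hTn.conj_mem _ (T.inv_mem htT) s)
  have h2 : t * (s * t⁻¹ * s⁻¹) = ⟨hh 0 ![a, 0], hh_mem _ _⟩ := by
    rw [← mul_assoc, ← mul_assoc, mul_inv_eq_iff_eq_mul, mul_inv_eq_iff_eq_mul]
    apply Subtype.ext
    simp only [hs, ht, Subgroup.coe_mul, hh_mul]
    congr 1
    · ring
    · apply vec_ext
      · simp; ring
      · simp [add_comm]
  rw [← h2]; exact h1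

lemma caseC (T : Subgroup ↥(U3 F)) (v : Fin 2 → F) (htU : hh 0 v ∈ U3 F)
    (htT : (⟨hh 0 v, htU⟩ : ↥(U3 F)) ∈ T) (ht1 : (⟨hh 0 v, htU⟩ : ↥(U3 F)) ≠ 1) (hv1 : v 1 = 0) :
    ∃ c : F, c ≠ 0 ∧ (⟨hh 0 ![c, 0], hh_mem _ _⟩ : ↥(U3 F)) ∈ T := by
  refine ⟨v 0, ?_, ?_⟩
  · intro hv0
    apply ht1
    rw [Subgroup.mk_eq_one]
    have : v = 0 := vec_ext hv0 hv1
    rw [this]
    exact hh_zero
  · have : ![v 0, 0] = v := vec_ext rfl (by simp [hv1])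
    simp only [this]
    exact htT

/-- a nontrivial normal subgroup of `U3` contains a nontrivial central translation -/
lemma exists_central_mem (T : Subgroup ↥(U3 F)) (hT : T ≠ ⊥) (hTn : T.Normal) :
    ∃ c : F, c ≠ 0 ∧ (⟨hh 0 ![c, 0], hh_mem _ _⟩ : ↥(U3 F)) ∈ T := by
  rcases T.bot_or_exists_ne_one with h | ⟨⟨t, htU⟩, htT, ht1⟩
  · exact absurd h hT
  have h := eq_hh_of_mem htU
  generalize blk t 0 1 = a at h
  generalize tr t = v at h
  subst h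
  by_cases ha : a = 0
  · subst ha
    by_cases hv1 : v 1 = 0
    · exact caseC T v htU htT ht1 hv1
    · exact ⟨v 1, hv1, caseA T hTn v htU htT⟩
  · exact ⟨a, ha, caseB T hTn a v htU htT⟩

end general

section prime
variable {p : ℕ} [Fact p.Prime]

lemma hh_smul_mem (K : Subgroup ↥(Cfsg.qdOver (ZMod p))) {v : Fin 2 → ZMod p} (hv : hh 0 v ∈ K)
    (k : ZMod p) : hh 0 (k • v) ∈ K := by
  have h1 := K.pow_mem hv k.val
  rw [hh_zero_pow] at h1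
  have : k.val • v = k • v := by
    rw [← Nat.cast_smul_eq_nsmul (ZMod p), ZMod.natCast_zmod_val]
  rw [← this]; exact h1

lemma hh_add_mem (K : Subgroup ↥(Cfsg.qdOver (ZMod p))) {v w : Fin 2 → ZMod p} (hv : hh 0 v ∈ K)
    (hw : hh 0 w ∈ K) : hh 0 (v + w) ∈ K := by
  rw [← hh_zero_mul]; exact K.mul_mem hv hw

theorem normalizer_char_le (T : Subgroup ↥(U3 (ZMod p))) (hT : T ≠ ⊥) (hTc : T.Characteristic)
    (g : ↥(Cfsg.qdOver (ZMod p)))
    (hg : g ∈ Subgroup.normalizer ((T.map (U3 (ZMod p)).subtype : Subgroup ↥(Cfsg.qdOver (ZMod p))) :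
      Set ↥(Cfsg.qdOver (ZMod p)))) : blk g 1 0 = 0 := by
  by_contra hc
  set K := T.map (U3 (ZMod p)).subtype with hK
  have hmemK : ∀ (x : ↥(Cfsg.qdOver (ZMod p))) (hx : x ∈ U3 (ZMod p)), x ∈ K ↔ (⟨x, hx⟩ : ↥(U3 (ZMod p))) ∈ T := by
    intro x hx
    constructor
    · rintro ⟨y, hy, hyx⟩
      have : y = ⟨x, hx⟩ := Subtype.ext hyx
      rw [← this]; exact hy
    · intro h
      exact ⟨⟨x, hx⟩, h, rfl⟩
  have hKU : K ≤ U3 (ZMod p) := Subgroup.map_subtype_le T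
  have hconj : ∀ x ∈ K, g * x * g⁻¹ ∈ K := fun x hx => (Subgroup.mem_normalizer_iff.1 hg x).1 hx
  obtain ⟨c, hc0, hcT⟩ := exists_central_mem T hT inferInstance
  have h1 : hh 0 ![c, 0] ∈ K := (hmemK _ _).2 hcT
  have h2 : hh 0 ![(1 : ZMod p), 0] ∈ K := by
    have := hh_smul_mem K h1 c⁻¹
    have e : c⁻¹ • ![c, 0] = ![(1 : ZMod p), 0] := by
      apply vec_ext
      · simp [hc0]
      · simp
    rw [e] at this; exact this
  have h3 : hh 0 ![blk g 0 0, blk g 1 0] ∈ K := by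
    have h := hconj _ h2
    have e : g * hh 0 ![(1 : ZMod p), 0] * g⁻¹ = hh 0 ![blk g 0 0, blk g 1 0] := by
      apply ext'
      · rw [blk_mul, blk_mul, blk_inv, blk_hh, blk_hh, u_zero]; group
      · rw [tr_conj _ _ (by rw [blk_hh, u_zero]), tr_hh, tr_hh]
        apply vec_ext
        · rw [mulVec_0]; simp
        · rw [mulVec_1]; simp
    rw [e] at h; exact h
  have h4 : hh 0 ![(0 : ZMod p), 1] ∈ K := by
    have h := hh_add_mem K (hh_smul_mem K h3 (blk g 1 0)⁻¹) (hh_smul_mem K h2 (-(blk g 1 0)⁻¹ * blk g 0 0))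
    have e : (blk g 1 0)⁻¹ • ![blk g 0 0, blk g 1 0] + (-(blk g 1 0)⁻¹ * blk g 0 0) • ![(1 : ZMod p), 0]
        = ![(0 : ZMod p), 1] := by
      apply vec_ext
      · simp
      · simp only [Pi.add_apply, Pi.smul_apply, Matrix.cons_val_one, Matrix.cons_val_zero, smul_eq_mul,
          mul_zero, add_zero]
        exact inv_mul_cancel₀ hc
    rw [e] at h; exact h
  have h5 := (mem_iff_of_characteristic hTc (swapAut (ZMod p)) _).2 ((hmemK _ (hh_mem _ _)).1 h4)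
  rw [swapAut_hh] at h5
  have h6 := hKU (hconj _ ((hmemK _ _).2 h5))
  have h7 := (mem_U3.1 h6).2
  rw [blk_conj_hh_10] at h7
  simp only [Matrix.cons_val_one, Matrix.cons_val_zero, mul_one, neg_eq_zero] at h7
  exact hc (pow_eq_zero_iff (two_ne_zero) |>.1 h7)

theorem normalizer_char_eq (T : Subgroup ↥(U3 (ZMod p))) (hT : T ≠ ⊥) (hTc : T.Characteristic) :
    Subgroup.normalizer ((T.map (U3 (ZMod p)).subtype : Subgroup ↥(Cfsg.qdOver (ZMod p))) :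
      Set ↥(Cfsg.qdOver (ZMod p))) =
    Subgroup.normalizer ((U3 (ZMod p) : Subgroup ↥(Cfsg.qdOver (ZMod p))) : Set ↥(Cfsg.qdOver (ZMod p))) :=
  le_antisymm (fun g hg => mem_normalizer_U3 (normalizer_char_le T hT hTc g hg))
    (normalizer_le_of_characteristic _ T hTc)

theorem normalizer_U3_ne_top :
    Subgroup.normalizer ((U3 (ZMod p) : Subgroup ↥(Cfsg.qdOver (ZMod p))) : Set ↥(Cfsg.qdOver (ZMod p))) ≠ ⊤ := by
  intro h
  have hw : mk (mk2 (0 : ZMod p) (-1) 1 0 (by ring)) 0 ∈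
      Subgroup.normalizer ((U3 (ZMod p) : Subgroup ↥(Cfsg.qdOver (ZMod p))) : Set ↥(Cfsg.qdOver (ZMod p))) := by
    rw [h]; trivial
  have h1 := (Subgroup.mem_normalizer_iff.1 hw (hh 1 0)).1 (hh_mem _ _)
  have h2 := (mem_U3.1 h1).2
  rw [blk_conj_hh_10, blk_mk] at h2
  simp at h2

end prime

end Cfsg.Agent.Lib.Helper46.Qd
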