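import Cfsg.Agent.Lib.Helper46.Amalgam

set_option autoImplicit false

namespace Cfsg.Agent.Lib.Helper46

open Cfsg
open scoped IsMulCommutative commutatorElement

variable {G : Type*} [Group G]

/-- conjugation by an element of the normalizer, as an endomorphism of the subgroup -/
def conjOn (V : Subgroup G) (r : G) (hr : r ∈ Subgroup.normalizer (V : Set G)) : V →* V where
  toFun x := ⟨r * x * r⁻¹, (Subgroup.mem_normalizer_iff.1 hr x).1 x.2⟩
  map_one' := by apply Subtype.ext; simp
  map_mul' x y := by apply Subtype.ext; simp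

theorem conjOn_coe (V : Subgroup G) (r : G) (hr : r ∈ Subgroup.normalizer (V : Set G)) (x : V) :
    ((conjOn V r hr x : V) : G) = r * x * r⁻¹ := rfl

/-- The trace (transfer) argument: if `v ∈ C_V(T)` with `T ≤ R` then `v ^ |R : T| ∈ [V,R] C_V(R)`. -/
theorem pow_relIndex_mem_commutator_sup_centralizer {V R T : Subgroup G} [Finite R]
    (hVc : IsMulCommutative V) (hRV : R ≤ Subgroup.normalizer (V : Set G)) {v : G}
    (hv : v ∈ V) (hvT : v ∈ Subgroup.centralizer (T : Set G)) :
    v ^ (T.relIndex R) ∈ ⁅V, R⁆ ⊔ (V ⊓ Subgroup.centralizer (R : Set G)) := by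
  classical
  set T' : Subgroup R := T.subgroupOf R with hT'
  have : Fintype (R ⧸ T') := Fintype.ofFinite _
  let v' : V := ⟨v, hv⟩
  let f : R ⧸ T' → V := fun q => conjOn V (q.out : R) (hRV q.out.2) v'
  let τ : V := ∏ q, f q
  have hA : ∀ (r : R) (q : R ⧸ T'), conjOn V r (hRV r.2) (f q) = f (r • q) := by
    intro r q
    have h1 : r • q = ((r * q.out : R) : R ⧸ T') := by
      conv_lhs => rw [← QuotientGroup.out_eq' q]
      rfl
    obtain ⟨t, ht⟩ := QuotientGroup.mk_out_eq_mul T' (r * q.out)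
    apply Subtype.ext
    change (r : G) * ((q.out : R) * v * ((q.out : R) : G)⁻¹) * (r : G)⁻¹ =
      (((r • q).out : R) : G) * v * (((r • q).out : R) : G)⁻¹
    rw [h1, ht]
    have htT : ((t : R) : G) ∈ T := Subgroup.mem_subgroupOf.1 t.2
    have hc : ((t : R) : G) * v = v * ((t : R) : G) := Subgroup.mem_centralizer_iff.1 hvT _ htT
    have hc' : ((t : R) : G) * v * ((t : R) : G)⁻¹ = v := by rw [hc]; group
    simp only [Subgroup.coe_mul, mul_inv_rev]
    calc (r : G) * ((q.out : R) * v * ((q.out : R) : G)⁻¹) * (r : G)⁻¹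
        = (r : G) * (q.out : R) * v * ((q.out : R) : G)⁻¹ * (r : G)⁻¹ := by group
      _ = (r : G) * (q.out : R) * (((t : R) : G) * v * ((t : R) : G)⁻¹) * ((q.out : R) : G)⁻¹ * (r : G)⁻¹ := by
          rw [hc']
      _ = _ := by group
  have hB : ∀ r : R, conjOn V r (hRV r.2) τ = τ := by
    intro r
    change conjOn V r (hRV r.2) (∏ q, f q) = ∏ q, f q
    rw [map_prod]
    simp_rw [hA]
    exact Equiv.prod_comp (MulAction.toPerm r) f
  have hτc : (τ : G) ∈ V ⊓ Subgroup.centralizer (R : Set G) := by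
    refine ⟨τ.2, ?_⟩
    change (τ : G) ∈ Subgroup.centralizer (R : Set G)
    rw [Subgroup.mem_centralizer_iff]
    intro r hr
    have := congrArg Subtype.val (hB ⟨r, hr⟩)
    rw [conjOn_coe] at this
    calc r * (τ : G) = (r * τ * r⁻¹) * r := by group
      _ = τ * r := by rw [this]
  have hC : τ * (v' ^ (T.relIndex R))⁻¹ ∈ (⁅V, R⁆).subgroupOf V := by
    have h1 : τ * (v' ^ (T.relIndex R))⁻¹ = ∏ q, (f q * v'⁻¹) := by
      rw [Finset.prod_mul_distrib, Finset.prod_const, Finset.card_univ, inv_pow]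
      congr 3
      rw [← Nat.card_eq_fintype_card]
      rfl
    rw [h1]
    apply Subgroup.prod_mem
    intro q _
    rw [Subgroup.mem_subgroupOf]
    change ((q.out : R) : G) * v * ((q.out : R) : G)⁻¹ * v⁻¹ ∈ ⁅V, R⁆
    rw [Subgroup.commutator_comm]
    exact Subgroup.commutator_mem_commutator q.out.2 hv
  have hC' : (τ : G) * (v ^ (T.relIndex R))⁻¹ ∈ ⁅V, R⁆ := by
    have := Subgroup.mem_subgroupOf.1 hC
    simpa using this
  have : v ^ (T.relIndex R) = ((τ : G) * (v ^ (T.relIndex R))⁻¹)⁻¹ * τ := by group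
  rw [this]
  exact Subgroup.mul_mem_sup (Subgroup.inv_mem _ hC') hτc

end Cfsg.Agent.Lib.Helper46
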