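import Mathlib
import Cfsg.Prelude.Def_Transfer
import Cfsg.Agent.Lib.Helper2.PGroupFrattini

/-! Nonabelian groups of order `p³`. -/

set_option autoImplicit false

namespace Cfsg.Agent.Lib.Helper46.OrderCube

open scoped commutatorElement

variable {P : Type*} [Group P] {p : ℕ} [Fact p.Prime]

theorem card_center (hcard : Nat.card P = p ^ 3) (hnc : ∃ x y : P, x * y ≠ y * x) :
    Nat.card (Subgroup.center P) = p := by
  have hp : p.Prime := Fact.out
  have hfin : Finite P := Nat.finite_of_card_ne_zero (by rw [hcard]; exact pow_ne_zero _ hp.ne_zero)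
  have hP : IsPGroup p P := IsPGroup.of_card hcard
  have hnt : Nontrivial P := by
    obtain ⟨x, y, hxy⟩ := hnc
    refine ⟨x, y, ?_⟩
    rintro rfl
    exact hxy rfl
  have hZnt := hP.center_nontrivial
  have hdvd : Nat.card (Subgroup.center P) ∣ p ^ 3 := hcard ▸ Subgroup.card_subgroup_dvd_card _
  obtain ⟨k, hk, hkc⟩ := (Nat.dvd_prime_pow hp).1 hdvd
  have hidx := (Subgroup.center P).card_mul_index
  rw [hcard, hkc] at hidx
  obtain ⟨x, y, hxy⟩ := hnc
  have hk0 : k ≠ 0 := by
    rintro rfl
    rw [pow_zero] at hkc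
    have := (Finite.one_lt_card_iff_nontrivial).2 hZnt
    omega
  have hk3 : k ≠ 3 := by
    rintro rfl
    have : Subgroup.center P = ⊤ := Subgroup.eq_top_of_card_eq _ (by rw [hkc, hcard])
    have hx : x ∈ Subgroup.center P := by rw [this]; trivial
    exact hxy ((Subgroup.mem_center_iff.1 hx y).symm)
  have hk2 : k ≠ 2 := by
    rintro rfl
    have h1 : (Subgroup.center P).index = p := by
      have : p ^ 2 * (Subgroup.center P).index = p ^ 2 * p := by rw [hidx]; ring
      exact Nat.eq_of_mul_eq_mul_left (pow_pos hp.pos 2) this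
    have h2 : Nat.card (P ⧸ Subgroup.center P) = p := by rw [← Subgroup.index_eq_card, h1]
    have : IsCyclic (P ⧸ Subgroup.center P) := isCyclic_of_prime_card h2
    exact hxy ((MonoidHom.isMulCommutative_of_isCyclic_of_ker_le_center
      (QuotientGroup.mk' (Subgroup.center P)) (by rw [QuotientGroup.ker_mk'])).is_comm.comm x y)
  have : k = 1 := by omega
  rw [hkc, this, pow_one]

theorem commutator_eq_center (hcard : Nat.card P = p ^ 3) (hnc : ∃ x y : P, x * y ≠ y * x) :
    commutator P = Subgroup.center P := by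
  have hp : p.Prime := Fact.out
  have hfin : Finite P := Nat.finite_of_card_ne_zero (by rw [hcard]; exact pow_ne_zero _ hp.ne_zero)
  have hZ := card_center hcard hnc
  have hidx := (Subgroup.center P).card_mul_index
  rw [hcard, hZ] at hidx
  have h1 : (Subgroup.center P).index = p ^ 2 := by
    have : p * (Subgroup.center P).index = p * p ^ 2 := by rw [hidx]; ring
    exact Nat.eq_of_mul_eq_mul_left hp.pos this
  have h2 : Nat.card (P ⧸ Subgroup.center P) = p ^ 2 := by rw [← Subgroup.index_eq_card, h1]
  have h3 : IsMulCommutative (P ⧸ Subgroup.center P) := IsPGroup.isMulCommutative_of_card_eq_prime_sq h2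
  have hle : commutator P ≤ Subgroup.center P :=
    (Subgroup.Normal.quotient_commutative_iff_commutator_le).mp h3
  apply Subgroup.eq_of_le_of_card_ge hle
  rw [hZ]
  have hdvd : Nat.card (commutator P) ∣ p := hZ ▸ Subgroup.card_dvd_of_le hle
  rcases (Nat.dvd_prime hp).1 hdvd with h | h
  · exfalso
    obtain ⟨x, y, hxy⟩ := hnc
    have hbot : commutator P = ⊥ := (Subgroup.card_eq_one).1 h
    have : ⁅x, y⁆ ∈ commutator P := Subgroup.commutator_mem_commutator (Subgroup.mem_top x) (Subgroup.mem_top y)
    rw [hbot, Subgroup.mem_bot, commutatorElement_eq_one_iff_mul_comm] at this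
    exact hxy this
  · exact h.ge

theorem isExtraspecial_of_exponent (hcard : Nat.card P = p ^ 3) (hnc : ∃ x y : P, x * y ≠ y * x)
    (hexp : ∀ x : P, x ^ p = 1) : Cfsg.IsExtraspecial p P := by
  have hp : p.Prime := Fact.out
  have hfin : Finite P := Nat.finite_of_card_ne_zero (by rw [hcard]; exact pow_ne_zero _ hp.ne_zero)
  have hP : IsPGroup p P := IsPGroup.of_card hcard
  have hc := commutator_eq_center hcard hnc
  refine ⟨⟨hP, ?_, hc⟩, card_center hcard hnc⟩
  apply le_antisymm
  · exact Cfsg.Agent.Lib.Helper2.frattini_le_of_elementary_quotient (p := p) _ hc.le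
      (fun x => by rw [hexp x]; exact Subgroup.one_mem _)
  · rw [← hc]
    exact Cfsg.Agent.Lib.Helper2.commutator_le_frattini hP

theorem exponent_eq (hnt : Nontrivial P) (hexp : ∀ x : P, x ^ p = 1) : Monoid.exponent P = p := by
  have hp : p.Prime := Fact.out
  have hdvd : Monoid.exponent P ∣ p := Monoid.exponent_dvd_of_forall_pow_eq_one hexp
  rcases (Nat.dvd_prime hp).1 hdvd with h | h
  · exfalso
    rw [Monoid.exp_eq_one_iff] at h
    exact not_subsingleton P h
  · exact h

end Cfsg.Agent.Lib.Helper46.OrderCube
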