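import Mathlib
import Cfsg.Prelude
import Cfsg.Agent.S3879
import Cfsg.Agent.S3880
import Cfsg.Agent.Lib.Helper64.MetaOmega

set_option autoImplicit false
set_option linter.unusedSectionVars false

/-! Coprime action on odd metacyclic `p`-groups, part 1: the core contradiction. -/

namespace Cfsg.Agent.Lib.Helper46.MetaCop

open Subgroup
open scoped commutatorElement

variable {Q : Type*} [Group Q]

/-- the commutator map `x ↦ [u, x]` as a homomorphism, in class 2 -/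
def commHom (hc : commutator Q ≤ center Q) (u : Q) : Q →* Q :=
  MonoidHom.mk' (fun x => u * x * u⁻¹ * x⁻¹) (by
    intro x y
    have hy : u * y * u⁻¹ * y⁻¹ ∈ center Q := hc (by
      rw [commutator_def]
      exact commutator_mem_commutator (mem_top u) (mem_top y))
    have h1 := (mem_center_iff.1 hy) x⁻¹
    have h2 := (mem_center_iff.1 hy) (u * x * u⁻¹)
    calc u * (x * y) * u⁻¹ * (x * y)⁻¹ = (u * x * u⁻¹) * (u * y * u⁻¹ * y⁻¹) * x⁻¹ := by group
      _ = (u * x * u⁻¹) * ((u * y * u⁻¹ * y⁻¹) * x⁻¹) := by rw [mul_assoc]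
      _ = (u * x * u⁻¹) * (x⁻¹ * (u * y * u⁻¹ * y⁻¹)) := by rw [h1]
      _ = u * x * u⁻¹ * x⁻¹ * (u * y * u⁻¹ * y⁻¹) := by simp only [mul_assoc])

theorem commHom_apply (hc : commutator Q ≤ center Q) (u x : Q) :
    commHom hc u x = u * x * u⁻¹ * x⁻¹ := rfl

theorem comm_mem (u x : Q) : u * x * u⁻¹ * x⁻¹ ∈ commutator Q := by
  rw [commutator_def]
  exact commutator_mem_commutator (mem_top u) (mem_top x)

theorem mul_pow_p {p : ℕ} [hp : Fact p.Prime] (hp2 : p ≠ 2) (hc : commutator Q ≤ center Q)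
    (he : ∀ c ∈ commutator Q, c ^ p = 1) (x y : Q) : (x * y) ^ p = x ^ p * y ^ p := by
  have hcm : y * x * y⁻¹ * x⁻¹ ∈ center Q := hc (comm_mem y x)
  have h := Cfsg.Agent.Lib.Helper64.mul_pow_of_comm_central (g := x) (h := y)
    (c := y * x * y⁻¹ * x⁻¹) (by group) ((mem_center_iff.1 hcm x).symm)
    ((mem_center_iff.1 hcm y).symm) p
  have hd : p ∣ p.choose 2 := hp.out.dvd_choose_self (by norm_num)
    (lt_of_le_of_ne hp.out.two_le (Ne.symm hp2))
  obtain ⟨t, ht⟩ := hd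
  rw [h, ht, pow_mul, he _ (comm_mem y x), one_pow, one_mul]

theorem pow_p_mem_center {p : ℕ} (hc : commutator Q ≤ center Q)
    (he : ∀ c ∈ commutator Q, c ^ p = 1) (x : Q) : x ^ p ∈ center Q := by
  rw [mem_center_iff]
  intro y
  have h1 : commHom hc y (x ^ p) = 1 := by
    rw [map_pow, commHom_apply, he _ (comm_mem y x)]
  rw [commHom_apply] at h1
  have : y * x ^ p = (y * x ^ p * y⁻¹ * (x ^ p)⁻¹) * (x ^ p * y) := by group
  rw [this, h1, one_mul]

theorem mul_pow_pp {p : ℕ} [hp : Fact p.Prime] (hp2 : p ≠ 2) (hc : commutator Q ≤ center Q)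
    (he : ∀ c ∈ commutator Q, c ^ p = 1) (k : ℕ) (x y : Q) :
    (x * y) ^ p ^ (k + 1) = x ^ p ^ (k + 1) * y ^ p ^ (k + 1) := by
  rw [pow_succ', pow_mul, pow_mul, pow_mul, mul_pow_p hp2 hc he]
  have : Commute (x ^ p) (y ^ p) := (mem_center_iff.1 (pow_p_mem_center hc he x) (y ^ p)).symm
  exact this.mul_pow _

/-- the power map `x ↦ x ^ p ^ (k+1)` -/
def powHom {p : ℕ} [hp : Fact p.Prime] (hp2 : p ≠ 2) (hc : commutator Q ≤ center Q)
    (he : ∀ c ∈ commutator Q, c ^ p = 1) (k : ℕ) : Q →* Q :=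
  MonoidHom.mk' (fun x => x ^ p ^ (k + 1)) (mul_pow_pp hp2 hc he k)

theorem powHom_apply {p : ℕ} [hp : Fact p.Prime] (hp2 : p ≠ 2) (hc : commutator Q ≤ center Q)
    (he : ∀ c ∈ commutator Q, c ^ p = 1) (k : ℕ) (x : Q) :
    powHom hp2 hc he k x = x ^ p ^ (k + 1) := rfl

/-- **Core contradiction.**  A metacyclic `p`-group (`p` odd) with `|Q'| = p`, `Q' ≤ Z(Q)`,
`Ω₁(Z(Q)) = Q'` cannot admit a set of automorphisms without fixed points on `Q / Z(Q)`. -/
theorem core [Finite Q] {p : ℕ} [hp : Fact p.Prime] (hp2 : p ≠ 2) (hQ : IsPGroup p Q)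
    (hm : Cfsg.IsMetacyclic Q) (hc : commutator Q ≤ center Q)
    (hcard : Nat.card (commutator Q) = p)
    (hΩ : ∀ z ∈ center Q, z ^ p = 1 → z ∈ commutator Q)
    (S : Set (Q ≃* Q))
    (hS : ∀ w : Q, (∀ a ∈ S, a w * w⁻¹ ∈ center Q) → w ∈ center Q) : False := by
  classical
  have he : ∀ c ∈ commutator Q, c ^ p = 1 := by
    intro c hcc
    have h := pow_card_eq_one' (G := commutator Q) (x := ⟨c, hcc⟩)
    rw [hcard] at h
    simpa using congrArg Subtype.val h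
  have hidx : (center Q).index = p ^ 2 := by rw [Cfsg.Agent.S3879.result hp2 hQ hm, hcard]
  obtain ⟨n, hn⟩ := IsPGroup.iff_card.1 hQ
  have hex : ∃ j, ∀ x : Q, x ^ p ^ j = 1 := ⟨n, fun x => by rw [← hn]; exact pow_card_eq_one'⟩
  have hK1 : ∀ x : Q, x ^ p ^ (Nat.find hex) = 1 := Nat.find_spec hex
  have hKmin : ∀ j < Nat.find hex, ¬ ∀ x : Q, x ^ p ^ j = 1 := fun j hj => Nat.find_min hex hj
  have hK2 : 2 ≤ Nat.find hex := by
    by_contra hlt
    have hall : ∀ x : Q, x ^ p = 1 := by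
      intro x
      have hle : Nat.find hex ≤ 1 := by omega
      have h1 := hK1 x
      obtain ⟨d, hd⟩ := Nat.exists_eq_add_of_le hle
      calc x ^ p = x ^ p ^ 1 := by rw [pow_one]
        _ = x ^ (p ^ (Nat.find hex) * p ^ d) := by rw [← pow_add, ← hd]
        _ = 1 := by rw [pow_mul, h1, one_pow]
    obtain ⟨E, Z, hE, hEc, -⟩ := Cfsg.Agent.Lib.Helper64.exists_omega_of_isMetacyclic hp2 hQ hm
    have hEtop : E = ⊤ := eq_top_iff.2 fun x _ => (hE x).2 (hall x)
    rw [hEtop, Subgroup.card_top] at hEc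
    have h3 := (center Q).index_mul_card
    have h4 : p ≤ Nat.card (center Q) :=
      hcard ▸ Nat.le_of_dvd Nat.card_pos (Subgroup.card_dvd_of_le hc)
    rw [hidx] at h3
    have h5 : p ^ 2 * p ≤ p ^ 2 := by
      calc p ^ 2 * p ≤ p ^ 2 * Nat.card (center Q) := Nat.mul_le_mul_left _ h4
        _ = Nat.card Q := h3
        _ ≤ p ^ 2 := hEc
    have hp1 := hp.out.one_lt
    nlinarith [pow_pos hp.out.pos 2]
  obtain ⟨k, hk⟩ : ∃ k, Nat.find hex = k + 2 := ⟨Nat.find hex - 2, by omega⟩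
  rw [hk] at hK1 hKmin
  set ψ := powHom hp2 hc he k with hψ
  have hψa : ∀ x, ψ x = x ^ p ^ (k + 1) := fun x => rfl
  have hψC : ∀ x, ψ x ∈ commutator Q := by
    intro x
    apply hΩ
    · rw [hψa, pow_succ', pow_mul]
      exact Subgroup.pow_mem _ (pow_p_mem_center hc he x) _
    · rw [hψa, ← pow_mul, ← pow_succ]
      exact hK1 x
  obtain ⟨x₀, hx₀⟩ : ∃ x₀, ψ x₀ ≠ 1 := by
    have := hKmin (k + 1) (by omega)
    push Not at this
    exact this
  have hord : orderOf (ψ x₀) = p := orderOf_eq_prime (he _ (hψC x₀)) hx₀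
  have hzp : zpowers (ψ x₀) = commutator Q := by
    apply Subgroup.eq_of_le_of_card_ge (zpowers_le.2 (hψC x₀))
    rw [Nat.card_zpowers, hord, hcard]
  have hgen : ∀ c ∈ commutator Q, ∃ i : ℕ, c = (ψ x₀) ^ i := by
    intro c hcc
    rw [← hzp] at hcc
    exact Cfsg.Agent.Lib.Helper64.exists_pow_of_mem_zpowers hcc
  have hrange : ψ.range = commutator Q := by
    apply le_antisymm
    · rintro _ ⟨x, rfl⟩
      exact hψC x
    · intro c hcc
      obtain ⟨i, rfl⟩ := hgen c hcc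
      exact ⟨x₀ ^ i, map_pow _ _ _⟩
  have hUidx : ψ.ker.index = p := by rw [Subgroup.index_ker, hrange, hcard]
  have hUab : IsMulCommutative ψ.ker := by
    apply (Cfsg.Agent.S3880.result hp2 hQ hm ψ.ker).1.2
    have h1 := ψ.ker.card_mul_index
    have h2 := (commutator Q).card_mul_index
    rw [hUidx] at h1
    rw [hcard] at h2
    have h3 : Nat.card ψ.ker * p = (commutator Q).index * p := by rw [h1, ← h2, mul_comm]
    exact le_of_eq (Nat.eq_of_mul_eq_mul_right hp.out.pos h3)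
  have hpair : ∀ u ∈ ψ.ker, ∃ n : ℕ, ∀ x, u * x * u⁻¹ * x⁻¹ = (ψ x) ^ n := by
    intro u hu
    obtain ⟨n, hn⟩ := hgen _ (comm_mem u x₀)
    refine ⟨n, fun x => ?_⟩
    obtain ⟨i, hi⟩ := hgen _ (hψC x)
    have hv : x * (x₀ ^ i)⁻¹ ∈ ψ.ker := by
      rw [MonoidHom.mem_ker, map_mul, map_inv, map_pow, hi, mul_inv_cancel]
    have huv : u * (x * (x₀ ^ i)⁻¹) = (x * (x₀ ^ i)⁻¹) * u := by
      have := mul_comm' (⟨u, hu⟩ : ψ.ker) ⟨_, hv⟩
      exact congrArg Subtype.val this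
    have h1 : commHom hc u (x * (x₀ ^ i)⁻¹) = 1 := by
      rw [commHom_apply, huv]; group
    have h2 : commHom hc u x = commHom hc u (x * (x₀ ^ i)⁻¹) * (commHom hc u x₀) ^ i := by
      rw [← map_pow, ← map_mul, inv_mul_cancel_right]
    rw [h1, one_mul, commHom_apply, commHom_apply, hn] at h2
    rw [h2, hi, ← pow_mul, ← pow_mul, mul_comm]
  have hUZ : ψ.ker ≤ center Q := by
    intro u hu
    apply hS
    intro a _
    obtain ⟨n, hn⟩ := hpair u hu
    have key : ∀ y, a u * y * (a u)⁻¹ * y⁻¹ = u * y * u⁻¹ * y⁻¹ := by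
      intro y
      have h1 : a u * y * (a u)⁻¹ * y⁻¹ = a (u * a.symm y * u⁻¹ * (a.symm y)⁻¹) := by
        simp
      rw [h1, hn, hn, map_pow, hψa, hψa, map_pow, MulEquiv.apply_symm_apply]
    rw [mem_center_iff]
    intro g
    have h1 := key (u⁻¹ * g * u)
    have h2 : a u * (u⁻¹ * g * u) * (a u)⁻¹ = g := by
      have h3 : a u * (u⁻¹ * g * u) * (a u)⁻¹
          = (a u * (u⁻¹ * g * u) * (a u)⁻¹ * (u⁻¹ * g * u)⁻¹) * (u⁻¹ * g * u) := by group
      rw [h3, h1]; group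
    calc g * (a u * u⁻¹) = (a u * (u⁻¹ * g * u) * (a u)⁻¹) * (a u * u⁻¹) := by rw [h2]
      _ = a u * u⁻¹ * g := by group
  have h1 := Subgroup.index_dvd_of_le hUZ
  rw [hidx, hUidx] at h1
  have h2 := Nat.le_of_dvd hp.out.pos h1
  have hp1 := hp.out.one_lt
  nlinarith

end Cfsg.Agent.Lib.Helper46.MetaCop
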