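import Mathlib
import Cfsg.Prelude
import Cfsg.Agent.Lib.Helper46.MetaCop1
import Cfsg.Agent.Lib.Helper46.PGroupLemmas
import Cfsg.Agent.S0660
import Cfsg.Agent.S0022
import Cfsg.Agent.Lib.Helper62.CoprimeBar
import Cfsg.Agent.Lib.Helper87.GenExtra2

set_option autoImplicit false
set_option linter.unusedSectionVars false

/-! Coprime action on odd metacyclic `p`-groups, part 2: `[R, A] = R` forces `R` abelian. -/

namespace Cfsg.Agent.Lib.Helper46.MetaCop

open Subgroup
open scoped commutatorElement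

theorem isMetacyclic_of_surjective {G H : Type*} [Group G] [Group H] (f : G →* H)
    (hf : Function.Surjective f) (h : Cfsg.IsMetacyclic G) : Cfsg.IsMetacyclic H := by
  obtain ⟨N, hN, hNc, hQc⟩ := h
  have hN' : (N.map f).Normal := hN.map f hf
  refine ⟨N.map f, hN', ?_, ?_⟩
  · exact isCyclic_of_surjective (f.subgroupMap N) (f.subgroupMap_surjective N)
  · let g : G ⧸ N →* H ⧸ N.map f := QuotientGroup.map N (N.map f) f (Subgroup.le_comap_map f N)
    apply isCyclic_of_surjective g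
    intro y
    obtain ⟨y, rfl⟩ := QuotientGroup.mk_surjective y
    obtain ⟨x, rfl⟩ := hf y
    exact ⟨(x : G ⧸ N), rfl⟩

/-- elements of order dividing `p` in `Z(R)` -/
def omegaZ {G : Type*} [Group G] (p : ℕ) (R : Subgroup G) : Subgroup G where
  carrier := {z | z ∈ R ⊓ centralizer (R : Set G) ∧ z ^ p = 1}
  one_mem' := ⟨one_mem _, one_pow _⟩
  mul_mem' := by
    rintro c d ⟨hc, hc1⟩ ⟨hd, hd1⟩
    refine ⟨mul_mem hc hd, ?_⟩
    have : Commute c d := (mem_centralizer_iff.1 hc.2 d hd.1).symm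
    rw [this.mul_pow, hc1, hd1, one_mul]
  inv_mem' := by
    rintro c ⟨hc, hc1⟩
    exact ⟨inv_mem hc, by rw [inv_pow, hc1, inv_one]⟩

theorem mem_omegaZ {G : Type*} [Group G] {p : ℕ} {R : Subgroup G} {z : G} :
    z ∈ omegaZ p R ↔ z ∈ R ⊓ centralizer (R : Set G) ∧ z ^ p = 1 := Iff.rfl

theorem omegaZ_normal {G : Type*} [Group G] (p : ℕ) (R : Subgroup G) [R.Normal] :
    (omegaZ p R).Normal := by
  constructor
  intro z hz g
  have hn : (R ⊓ centralizer (R : Set G)).Normal := inferInstance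
  exact ⟨hn.conj_mem z hz.1 g, by rw [conj_pow, hz.2]; group⟩

theorem false_of_min {G : Type*} [Group G] [Finite G] {p : ℕ} [hp : Fact p.Prime] (hp2 : p ≠ 2)
    (R A : Subgroup G) (hRn : R.Normal) (hsup : R ⊔ A = ⊤) (hR : IsPGroup p R)
    (hm : Cfsg.IsMetacyclic R) (hcop : (Nat.card A).Coprime p) (hRA : ⁅R, A⁆ = R)
    (hne : ⁅R, R⁆ ≠ ⊥)
    (hmin : ∀ L : Subgroup G, L.Normal → L ≤ R → L ≠ ⊥ → ⁅R, R⁆ ≤ L) : False := by
  have hDR : ⁅R, R⁆ ≤ R := Subgroup.commutator_le_self R
  have hnil : Group.IsNilpotent R := hR.isNilpotent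
  have hDc : ⁅R, R⁆ ≤ centralizer (R : Set G) := by
    rw [← Subgroup.commutator_eq_bot_iff_le_centralizer]
    by_contra h
    have h1 := hmin ⁅⁅R, R⁆, R⁆ inferInstance (Subgroup.commutator_le_right _ R) h
    have h2 := le_of_le_sup_commutator (Q := R) (V := ⁅R, R⁆) (W := ⊥) hnil hDR bot_le
      (by rw [normalizer_eq_top_iff.2 (inferInstance : (⊥ : Subgroup G).Normal)]; exact le_top)
      (by rw [bot_sup_eq]; exact h1)
    exact hne (le_bot_iff.1 h2)
  have hMn : (omegaZ p R).Normal := omegaZ_normal p R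
  have hMR : omegaZ p R ≤ R := fun z hz => hz.1.1
  have hDp : IsPGroup p (⁅R, R⁆ : Subgroup G) := hR.to_le hDR
  -- `R'` has exponent `p`
  have hDM : ⁅R, R⁆ ≤ omegaZ p R := by
    have h1 : ⁅R, R⁆ ⊓ omegaZ p R ≠ ⊥ := by
      obtain ⟨j, hj⟩ := IsPGroup.iff_card.1 hDp
      have hj0 : j ≠ 0 := by
        rintro rfl
        rw [pow_zero] at hj
        exact hne ((Subgroup.card_eq_one).1 hj)
      obtain ⟨x, hx⟩ := exists_prime_orderOf_dvd_card' (G := (⁅R, R⁆ : Subgroup G)) p
        (by rw [hj]; exact dvd_pow_self p hj0)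
      intro hbot
      have hx1 : (x : G) ∈ ⁅R, R⁆ ⊓ omegaZ p R := by
        refine ⟨x.2, ⟨hDR x.2, hDc x.2⟩, ?_⟩
        have := pow_orderOf_eq_one x
        rw [hx] at this
        simpa using congrArg Subtype.val this
      rw [hbot, mem_bot] at hx1
      have hx2 : x = 1 := Subtype.ext hx1
      rw [hx2, orderOf_one] at hx
      exact hp.out.one_lt.ne hx
    exact (hmin _ inferInstance (inf_le_left.trans hDR) h1).trans inf_le_right
  have hAN : ∀ L : Subgroup G, L.Normal → A ≤ normalizer (L : Set G) := by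
    intro L hL
    rw [normalizer_eq_top_iff.2 hL]; exact le_top
  have hRN : ∀ L : Subgroup G, L.Normal → R ≤ normalizer (L : Set G) := by
    intro L hL
    rw [normalizer_eq_top_iff.2 hL]; exact le_top
  have hcopP : ∀ L : Subgroup G, L ≤ R → (Nat.card A).Coprime (Nat.card L) := by
    intro L hL
    obtain ⟨j, hj⟩ := IsPGroup.iff_card.1 (hR.to_le hL)
    rw [hj]
    exact Nat.Coprime.pow_right j hcop
  -- `Ω₁(Z(R)) = R'` by Maschke
  have hMD : omegaZ p R ≤ ⁅R, R⁆ := by
    have hab : ∀ a ∈ omegaZ p R, ∀ b ∈ omegaZ p R, a * b = b * a :=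
      fun a ha b hb => (mem_centralizer_iff.1 ha.1.2 b hb.1.1).symm
    obtain ⟨W, hWM, hDW, hdec⟩ := Cfsg.Agent.Lib.Helper87.exists_compl_elem (p := p)
      (C := omegaZ p R) (K := ⁅R, R⁆) hab (fun a ha => ha.2)
    have hsupW : ⁅R, R⁆ ⊔ W = omegaZ p R := by
      apply le_antisymm (sup_le hDM hWM)
      intro v hv
      obtain ⟨z, hz, a, ha, rfl⟩ := hdec v hv
      exact mul_mem (mem_sup_left hz) (mem_sup_right ha)
    obtain ⟨W', hW'M, hAW', hDW', hsupW'⟩ := Cfsg.Agent.S0660.result (omegaZ p R) A ⁅R, R⁆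
      ⟨⟨fun a b => Subtype.ext (hab a a.2 b b.2)⟩⟩ (hAN _ hMn) (hcopP _ hMR) hDM
      (hAN _ inferInstance) W hWM hDW hsupW
    have hW'n : W'.Normal := by
      rw [← normalizer_eq_top_iff, eq_top_iff, ← hsup]
      apply sup_le _ hAW'
      intro r hr
      rw [mem_normalizer_iff]
      intro w
      constructor
      · intro hw
        have : r * w * r⁻¹ = w := by
          rw [mem_centralizer_iff.1 (hW'M hw).1.2 r hr]; group
        rwa [this]
      · intro hw
        have h1 : r * w * r⁻¹ * r = r * (r * w * r⁻¹) :=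
          (mem_centralizer_iff.1 (hW'M hw).1.2 r hr).symm
        have : r * w * r⁻¹ = w := by
          have h2 : r * w = r * (r * w * r⁻¹) := by rw [← h1]; group
          exact (mul_left_cancel h2).symm
        rwa [this] at hw
    have hW'bot : W' = ⊥ := by
      by_contra h
      have h1 := hmin W' hW'n (hW'M.trans hMR) h
      apply hne
      rw [eq_bot_iff, ← hDW']
      exact le_inf le_rfl h1
    rw [← hsupW', hW'bot, sup_bot_eq]
  -- fixed points
  have hfix : R ⊓ centralizer (A : Set G) ≤ ⁅R, R⁆ :=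
    Cfsg.Agent.Lib.Helper62.inf_centralizer_le_of_commutator_eq A R ⁅R, R⁆ (hAN _ hRn)
      (hcopP _ le_rfl) (hRN _ inferInstance) (hAN _ inferInstance) le_rfl hRA
  have hZn : (R ⊓ centralizer (R : Set G)).Normal := inferInstance
  have hS0 : ∀ w ∈ R, (∀ a ∈ A, a * w * a⁻¹ * w⁻¹ ∈ R ⊓ centralizer (R : Set G)) →
      w ∈ R ⊓ centralizer (R : Set G) := by
    intro w hw hfx
    have hsolv : Group.IsSolvable R := inferInstance
    obtain ⟨c, hc, hwc⟩ := Cfsg.Agent.S0022.result A R (hAN _ hRn) (hcopP _ le_rfl)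
      (Or.inr hsolv) (R ⊓ centralizer (R : Set G)) inf_le_left (hRN _ hZn) (hAN _ hZn) w hw hfx
    have hc' : c ∈ R ⊓ centralizer (R : Set G) := ⟨hc.1, hDc (hfix hc)⟩
    have : w = c * (w⁻¹ * c)⁻¹ := by group
    rw [this]
    exact mul_mem hc' (inv_mem hwc)
  -- transport to the type `R`
  have hmemD : ∀ x : R, x ∈ commutator R ↔ (x : G) ∈ ⁅R, R⁆ := by
    intro x
    rw [← Subgroup.map_subtype_commutator]
    exact (Subgroup.mem_map_iff_mem R.subtype_injective (x := x)).symm
  have hmemZ : ∀ z : R, z ∈ center R ↔ (z : G) ∈ centralizer (R : Set G) := by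
    intro z
    rw [mem_center_iff, mem_centralizer_iff]
    constructor
    · intro h g hg
      exact congrArg Subtype.val (h ⟨g, hg⟩)
    · intro h g
      exact Subtype.ext (h g g.2)
  have hc : commutator R ≤ center R := fun x hx => (hmemZ x).2 (hDc ((hmemD x).1 hx))
  have hcard : Nat.card (commutator R) = p := by
    obtain ⟨a, b, κ, m, k, n, D⟩ := Cfsg.Agent.Lib.Helper64.exists_metaData hR hm
    rw [D.commutator_eq, Nat.card_zpowers]
    have hmem : a ^ κ ∈ commutator R := by rw [D.commutator_eq]; exact mem_zpowers _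
    apply orderOf_eq_prime
    · have := (hDM ((hmemD _).1 hmem)).2
      exact Subtype.ext (by simpa using this)
    · intro h1
      apply hne
      rw [← Subgroup.map_subtype_commutator, D.commutator_eq, h1, zpowers_one_eq_bot,
        Subgroup.map_bot]
  refine core hp2 hR hm hc hcard ?_ (Set.range fun a : A => MulAut.conjNormal (H := R) (a : G)) ?_
  · intro z hz hzp
    rw [hmemD]
    apply hMD
    refine ⟨⟨z.2, (hmemZ z).1 hz⟩, ?_⟩
    simpa using congrArg Subtype.val hzp
  · intro w hw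
    rw [hmemZ]
    refine (hS0 w w.2 ?_).2
    intro a ha
    have h1 := hw _ ⟨⟨a, ha⟩, rfl⟩
    rw [hmemZ] at h1
    have h2 : ((MulAut.conjNormal (H := R) a w * w⁻¹ : R) : G) = a * w * a⁻¹ * (w : G)⁻¹ := by
      simp
    rw [h2] at h1
    refine ⟨?_, h1⟩
    exact R.mul_mem (hRn.conj_mem _ w.2 a) (R.inv_mem w.2)

end Cfsg.Agent.Lib.Helper46.MetaCop
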