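import Mathlib
import Cfsg.Prelude
import Cfsg.Agent.Lib.Helper46.MetaCop2

set_option autoImplicit false
set_option linter.unusedSectionVars false

/-! Coprime action on odd metacyclic `p`-groups, part 3: the induction. -/

namespace Cfsg.Agent.Lib.Helper46.MetaCop

open Subgroup
open scoped commutatorElement

universe u

theorem claim_aux (p : ℕ) [hp : Fact p.Prime] (hp2 : p ≠ 2) :
    ∀ (n : ℕ) (G : Type u) [Group G] [Finite G] (R A : Subgroup G), Nat.card G ≤ n → R.Normal →
      R ⊔ A = ⊤ → IsPGroup p R → Cfsg.IsMetacyclic R → (Nat.card A).Coprime p → ⁅R, A⁆ = R →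
      ⁅R, R⁆ = ⊥ := by
  intro n
  induction n with
  | zero =>
    intro G _ _ R A hn
    have := Nat.card_pos (α := G)
    omega
  | succ n ih =>
    intro G _ _ R A hn hRn hsup hR hm hcop hRA
    by_contra hne
    apply false_of_min hp2 R A hRn hsup hR hm hcop hRA hne
    intro L hL hLR hLne
    have hsurj := QuotientGroup.mk'_surjective L
    have hlt : Nat.card (G ⧸ L) ≤ n := by
      have h1 := L.card_mul_index
      have h2 : 1 < Nat.card L := (Subgroup.one_lt_card_iff_ne_bot L).2 hLne
      have h3 : L.index = Nat.card (G ⧸ L) := rfl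
      have h4 : 0 < L.index := Nat.pos_of_ne_zero L.index_ne_zero_of_finite
      rw [← h3]
      nlinarith
    have h1 := ih (G ⧸ L) (R.map (QuotientGroup.mk' L)) (A.map (QuotientGroup.mk' L)) hlt
      (hRn.map _ hsurj) (by rw [← Subgroup.map_sup, hsup, Subgroup.map_top_of_surjective _ hsurj])
      (hR.map _)
      (isMetacyclic_of_surjective _ ((QuotientGroup.mk' L).subgroupMap_surjective R) hm)
      (Nat.Coprime.coprime_dvd_left (Subgroup.card_map_dvd A _) hcop)
      (by rw [← Subgroup.map_commutator, hRA])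
    rw [← Subgroup.map_commutator, Subgroup.map_eq_bot_iff, QuotientGroup.ker_mk'] at h1
    exact h1

/-- **BG 4.12, key claim.**  A metacyclic `p`-group `R` (`p` odd) with `[R, A] = R` for a
`p'`-group `A` normalizing it is abelian. -/
theorem commutator_self_eq_bot {G : Type u} [Group G] [Finite G] {p : ℕ} [hp : Fact p.Prime]
    (hp2 : p ≠ 2) (R A : Subgroup G) (hA : A ≤ normalizer (R : Set G)) (hR : IsPGroup p R)
    (hm : Cfsg.IsMetacyclic R) (hcop : (Nat.card A).Coprime p) (hRA : ⁅R, A⁆ = R) :
    ⁅R, R⁆ = ⊥ := by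
  have hRH : R ≤ R ⊔ A := le_sup_left
  have hAH : A ≤ R ⊔ A := le_sup_right
  have hn : (R.subgroupOf (R ⊔ A)).Normal :=
    (Subgroup.normal_subgroupOf_iff_le_normalizer hRH).2 (sup_le le_normalizer hA)
  have key := claim_aux p hp2 _ ↥(R ⊔ A) (R.subgroupOf (R ⊔ A)) (A.subgroupOf (R ⊔ A)) le_rfl hn
    (by rw [← Subgroup.subgroupOf_sup hRH hAH, Subgroup.subgroupOf_self])
    (hR.of_equiv (Subgroup.subgroupOfEquivOfLe hRH).symm)
    (isMetacyclic_of_surjective (Subgroup.subgroupOfEquivOfLe hRH).symm.toMonoidHom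
      (Subgroup.subgroupOfEquivOfLe hRH).symm.surjective hm)
    (by rw [Nat.card_congr (Subgroup.subgroupOfEquivOfLe hAH).toEquiv]; exact hcop)
    (by
      apply Subgroup.map_injective (R ⊔ A).subtype_injective
      rw [Subgroup.map_commutator, Subgroup.subgroupOf_map_subtype, Subgroup.subgroupOf_map_subtype,
        inf_of_le_left hRH, inf_of_le_left hAH, hRA])
  have h2 := congrArg (Subgroup.map (R ⊔ A).subtype) key
  rwa [Subgroup.map_commutator, Subgroup.subgroupOf_map_subtype, inf_of_le_left hRH,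
    Subgroup.map_bot] at h2

end Cfsg.Agent.Lib.Helper46.MetaCop
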