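import Mathlib
import Cfsg.Prelude
import Cfsg.Agent.Lib.Helper46.MetaCop3
import Cfsg.Agent.Lib.Helper64.Meta2Sq
import Cfsg.Agent.Lib.Helper1.Coprime2
import Cfsg.Agent.S0638
import Cfsg.Agent.S0055

set_option autoImplicit false
set_option linter.unusedSectionVars false

/-! Coprime action on odd metacyclic `p`-groups, part 4: cyclic factors. -/

namespace Cfsg.Agent.Lib.Helper46.MetaCop

open Subgroup
open scoped commutatorElement

/-- In a metacyclic `p`-group, `p` odd, a subgroup disjoint from a nontrivial subgroup is cyclic. -/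
theorem isCyclic_of_disjoint {G : Type*} [Group G] [Finite G] {p : ℕ} [hp : Fact p.Prime]
    (hp2 : p ≠ 2) (R X Y : Subgroup G) (hR : IsPGroup p R) (hm : Cfsg.IsMetacyclic R)
    (hX : X ≤ R) (hY : Y ≤ R) (hXY : X ⊓ Y = ⊥) (hYne : Y ≠ ⊥) : IsCyclic X := by
  by_contra hnc
  have hmX : Cfsg.IsMetacyclic X := Cfsg.Agent.Lib.Helper64.isMetacyclic_of_injective
    (Subgroup.inclusion hX) (Subgroup.inclusion_injective hX) hm
  obtain ⟨⟨-, hexp⟩, hcard⟩ := Cfsg.Agent.S0638.result hp2 (hR.to_le hX) hmX hnc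
  obtain ⟨E, Z, hE, hEc, -⟩ := Cfsg.Agent.Lib.Helper64.exists_omega_of_isMetacyclic hp2 hR hm
  have hle : (Cfsg.omegaOne p (⊤ : Subgroup X)).map (Subgroup.inclusion hX) ≤ E := by
    rintro _ ⟨x, hx, rfl⟩
    rw [hE, ← map_pow, hexp x hx, map_one]
  have heq : (Cfsg.omegaOne p (⊤ : Subgroup X)).map (Subgroup.inclusion hX) = E := by
    apply Subgroup.eq_of_le_of_card_ge hle
    rw [Subgroup.card_map_of_injective (Subgroup.inclusion_injective hX), hcard]
    exact hEc
  obtain ⟨j, hj⟩ := IsPGroup.iff_card.1 (hR.to_le hY)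
  have hj0 : j ≠ 0 := by
    rintro rfl
    rw [pow_zero] at hj
    exact hYne ((Subgroup.card_eq_one).1 hj)
  obtain ⟨y, hy⟩ := exists_prime_orderOf_dvd_card' (G := Y) p
    (by rw [hj]; exact dvd_pow_self p hj0)
  have hyE : (⟨y, hY y.2⟩ : R) ∈ E := by
    rw [hE]
    have := pow_orderOf_eq_one y
    rw [hy] at this
    apply Subtype.ext
    simpa using congrArg Subtype.val this
  rw [← heq] at hyE
  obtain ⟨x, -, hx⟩ := hyE
  have hyX : (y : G) ∈ X := by
    have : ((Subgroup.inclusion hX x : R) : G) = y := congrArg Subtype.val hx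
    rw [← this]
    exact x.2
  have h1 : (y : G) ∈ X ⊓ Y := ⟨hyX, y.2⟩
  rw [hXY, mem_bot] at h1
  have h2 : y = 1 := Subtype.ext h1
  rw [h2, orderOf_one] at hy
  exact hp.out.one_lt.ne hy

end Cfsg.Agent.Lib.Helper46.MetaCop
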