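import Mathlib
import Cfsg.Agent.Lib.Helper33.Sections

/-!
# A four-group on which `S₃` is induced gives a section `S₄`
-/

set_option autoImplicit false

namespace Cfsg.Agent.Lib.Helper46.S4Section

open Cfsg Cfsg.Agent.Lib.Helper33

variable {G : Type*} [Group G]

/-- an element of odd order lies in the powers of its square. -/
theorem commute_of_sq_commute {z w : G} (hz : Odd (orderOf z)) (h : Commute (z ^ 2) w) :
    Commute z w := by
  obtain ⟨m, hm⟩ := hz
  have h1 : z = (z ^ 2) ^ (m + 1) := by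
    rw [← pow_mul]
    have : 2 * (m + 1) = orderOf z + 1 := by omega
    rw [this, pow_succ, pow_orderOf_eq_one, one_mul]
  rw [h1]
  exact h.pow_left _

theorem card_mul_relIndex {H K : Subgroup G} (h : H ≤ K) :
    Nat.card H * H.relIndex K = Nat.card K := by
  have h1 := Subgroup.card_mul_index (H.subgroupOf K)
  rwa [Nat.card_congr (Subgroup.subgroupOfEquivOfLe h).toEquiv] at h1

/-- an odd order element normalizing a group of order four and centralizing a nontrivial element of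
it centralizes it. -/
theorem centralizes_of_fix [Finite G] (U : Subgroup G) (hU : Nat.card U = 4) (z : G)
    (hzU : ∀ u ∈ U, z * u * z⁻¹ ∈ U) (hz : Odd (orderOf z)) (x : G) (hxU : x ∈ U) (hx1 : x ≠ 1)
    (hxz : Commute z x) : ∀ w ∈ U, Commute z w := by
  set F : Subgroup G := U ⊓ Subgroup.centralizer {z} with hF
  have hmemF : ∀ w, w ∈ F ↔ w ∈ U ∧ Commute z w := by
    intro w
    rw [hF, Subgroup.mem_inf, Subgroup.mem_centralizer_singleton_iff]
    constructor
    · rintro ⟨h1, h2⟩; exact ⟨h1, h2.symm⟩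
    · rintro ⟨h1, h2⟩; exact ⟨h1, h2.symm⟩
  have hFU : F ≤ U := inf_le_left
  have hxF : x ∈ F := (hmemF x).2 ⟨hxU, hxz⟩
  have hdvd : Nat.card F ∣ 4 := hU ▸ Subgroup.card_dvd_of_le hFU
  have hne1 : Nat.card F ≠ 1 := by
    intro h
    rw [Subgroup.card_eq_one] at h
    rw [h, Subgroup.mem_bot] at hxF
    exact hx1 hxF
  have hcases : Nat.card F = 2 ∨ Nat.card F = 4 := by
    have hle : Nat.card F ≤ 4 := Nat.le_of_dvd (by norm_num) hdvd
    have hpos : 0 < Nat.card F := Nat.card_pos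
    interval_cases h : Nat.card F <;> simp_all
  rcases hcases with h2 | h4
  · -- index two
    have hidx : (F.subgroupOf U).index = 2 := by
      have h1 := card_mul_relIndex hFU
      rw [h2, hU] at h1
      show F.relIndex U = 2
      omega
    intro w hw
    have hc : z * w * z⁻¹ * w⁻¹ ∈ F := by
      have h1 := Subgroup.mul_mem_iff_of_index_two hidx
        (a := (⟨z * w * z⁻¹, hzU w hw⟩ : ↥U)) (b := (⟨w⁻¹, U.inv_mem hw⟩ : ↥U))
      have h3 : ((⟨z * w * z⁻¹, hzU w hw⟩ : ↥U) ∈ F.subgroupOf U ↔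
          (⟨w⁻¹, U.inv_mem hw⟩ : ↥U) ∈ F.subgroupOf U) := by
        rw [Subgroup.mem_subgroupOf, Subgroup.mem_subgroupOf]
        show z * w * z⁻¹ ∈ F ↔ w⁻¹ ∈ F
        rw [inv_mem_iff, hmemF, hmemF]
        constructor
        · rintro ⟨-, h⟩
          refine ⟨hw, ?_⟩
          have h5 : z * (z * w * z⁻¹) = (z * w * z⁻¹) * z := h
          have h6 : z * w = w * z := by
            have := congrArg (fun a => z⁻¹ * a * z) h5
            simpa [mul_assoc] using this
          exact h6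
        · rintro ⟨-, h⟩
          have h5 : z * w = w * z := h
          have h6 : z * w * z⁻¹ = w := by rw [h5]; group
          rw [h6]
          exact ⟨hw, h⟩
      have h4 := h1.2 h3
      rw [Subgroup.mem_subgroupOf] at h4
      exact h4
    set c := z * w * z⁻¹ * w⁻¹ with hcdef
    have hcz : z * c = c * z := ((hmemF c).1 hc).2
    have hc2 : c ^ 2 = 1 := by
      have := pow_card_eq_one' (G := ↥F) (x := ⟨c, hc⟩)
      rw [h2] at this
      exact congrArg Subtype.val this
    have hzw : z * w = c * w * z := by rw [hcdef]; group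
    apply commute_of_sq_commute hz
    show z ^ 2 * w = w * z ^ 2
    calc z ^ 2 * w = z * (z * w) := by rw [pow_two, mul_assoc]
      _ = z * (c * w * z) := by rw [hzw]
      _ = (z * c) * w * z := by group
      _ = c * (z * w) * z := by rw [hcz]; group
      _ = c * (c * w * z) * z := by rw [hzw]
      _ = c ^ 2 * w * z ^ 2 := by rw [pow_two, pow_two]; group
      _ = w * z ^ 2 := by rw [hc2, one_mul]
  · have hEq : F = U := by
      apply Subgroup.eq_of_le_of_card_ge hFU
      rw [h4, hU]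
    intro w hw
    rw [← hEq] at hw
    exact ((hmemF w).1 hw).2

theorem perm4_fact : ∀ σ : Equiv.Perm (Fin 4), σ 0 = 0 → Equiv.Perm.sign σ = 1 → σ ^ 3 = 1 := by
  decide

/-- the normal case. -/
theorem involves_perm4_of_normal [Finite G] (U : Subgroup G) [hUn : U.Normal]
    (hU : Nat.card U = 4) (t y : G) (ht2 : ∃ k : ℕ, t ^ 2 ^ k = 1) (hyodd : Odd (orderOf y))
    (htU : t ∉ Subgroup.centralizer (U : Set G)) (hyU : y ∉ Subgroup.centralizer (U : Set G)) :
    Involves (Equiv.Perm (Fin 4)) G := by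
  classical
  set C : Subgroup G := Subgroup.centralizer (U : Set G) with hC
  have hCn : C.Normal := Subgroup.normal_centralizer
  -- the permutation representation on `U`
  let e₀ : ↥U ≃ Fin 4 := Finite.equivFinOfCardEq hU
  let e : ↥U ≃ Fin 4 := e₀.trans (Equiv.swap (e₀ 1) 0)
  have he1 : e 1 = 0 := by
    show Equiv.swap (e₀ 1) 0 (e₀ 1) = 0
    exact Equiv.swap_apply_left _ _
  let ρ : G →* Equiv.Perm (Fin 4) :=
    (e.permCongrHom.toMonoidHom.comp (MulAut.toPerm ↥U)).comp (MulAut.conjNormal (H := U))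
  have hρ : ∀ (g : G) (u : ↥U), ρ g (e u) = e ⟨g * u * g⁻¹, hUn.conj_mem u u.2 g⟩ := by
    intro g u
    show e ((MulAut.conjNormal g : MulAut ↥U) (e.symm (e u))) = _
    rw [Equiv.symm_apply_apply]
    congr 1
  have hρ0 : ∀ g : G, ρ g 0 = 0 := by
    intro g
    rw [← he1, hρ]
    congr 1
    apply Subtype.ext
    simp
  have hker : ∀ g : G, ρ g = 1 ↔ g ∈ C := by
    intro g
    rw [hC, Subgroup.mem_centralizer_iff]
    constructor
    · intro h u hu
      have h1 := hρ g ⟨u, hu⟩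
      rw [h, Equiv.Perm.one_apply] at h1
      have h2 := congrArg Subtype.val (e.injective h1)
      have h3 : u = g * u * g⁻¹ := h2
      calc u * g = (g * u * g⁻¹) * g := by rw [← h3]
        _ = g * u := by group
    · intro h
      ext i
      obtain ⟨u, rfl⟩ := e.surjective i
      rw [hρ, Equiv.Perm.one_apply]
      congr 2
      apply Subtype.ext
      show g * u * g⁻¹ = u
      rw [← h u u.2]; group
  let sg : G →* ℤˣ := Equiv.Perm.sign.comp ρ
  set M : Subgroup G := sg.ker with hM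
  have hMn : M.Normal := MonoidHom.normal_ker sg
  have hcube : ∀ g ∈ M, g ^ 3 ∈ C := by
    intro g hg
    rw [← hker, map_pow]
    exact perm4_fact _ (hρ0 g) hg
  have hCM : C ≤ M := by
    intro g hg
    show Equiv.Perm.sign (ρ g) = 1
    rw [(hker g).2 hg, map_one]
  have htM : t ∉ M := by
    intro h
    obtain ⟨k, hk⟩ := ht2
    apply htU
    rw [← hker]
    have h1 : ρ t ^ 3 = 1 := perm4_fact _ (hρ0 t) h
    have h2 : ρ t ^ 2 ^ k = 1 := by rw [← map_pow, hk, map_one]
    have h3 := pow_gcd_eq_one.2 ⟨h1, h2⟩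
    have h4 : Nat.gcd 3 (2 ^ k) = 1 := Nat.Coprime.pow_right k (by norm_num)
    rwa [h4, pow_one] at h3
  have hyM : y ∈ M := by
    show sg y = 1
    have h1 : sg y ^ orderOf y = 1 := by rw [← map_pow, pow_orderOf_eq_one, map_one]
    rcases Int.units_eq_one_or (sg y) with h | h
    · exact h
    · rw [h, hyodd.neg_one_pow] at h1
      exact absurd h1 (by decide)
  have : Fact (Nat.Prime 3) := ⟨by norm_num⟩
  obtain ⟨P⟩ : Nonempty (Sylow 3 ↥M) := inferInstance
  set Q : Subgroup G := (P : Subgroup ↥M).map M.subtype with hQ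
  have hQM : Q ≤ M := Subgroup.map_subtype_le _
  have hFr : Subgroup.normalizer (Q : Set G) ⊔ M = ⊤ := Sylow.normalizer_sup_eq_top P
  -- an element of `Q` outside `C`
  obtain ⟨z, hzQ, hzC⟩ : ∃ z ∈ Q, z ∉ C := by
    by_contra hcon
    push Not at hcon
    have hPC : (P : Subgroup ↥M) ≤ C.subgroupOf M := by
      intro a ha
      rw [Subgroup.mem_subgroupOf]
      exact hcon a ⟨a, ha, rfl⟩
    have hp : IsPGroup 3 (↥M ⧸ C.subgroupOf M) := by
      intro a
      induction a using QuotientGroup.induction_on with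
      | H a =>
        refine ⟨1, ?_⟩
        rw [pow_one, ← QuotientGroup.mk_pow, QuotientGroup.eq_one_iff, Subgroup.mem_subgroupOf]
        exact hcube a a.2
    obtain ⟨k, hk⟩ := IsPGroup.iff_card.1 hp
    have h1 : (C.subgroupOf M).index ∣ (P : Subgroup ↥M).index := Subgroup.index_dvd_of_le hPC
    have h2 : (C.subgroupOf M).index = 3 ^ k := hk
    have h3 := P.not_dvd_index
    have hk0 : k = 0 := by
      by_contra hk0
      apply h3
      refine dvd_trans ?_ h1
      rw [h2]
      exact dvd_pow_self 3 hk0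
    rw [hk0, pow_zero, Subgroup.index_eq_one, Subgroup.subgroupOf_eq_top] at h2
    exact hyU (h2 hyM)
  have hQp : IsPGroup 3 ↥Q := P.2.map _
  have hzodd : Odd (orderOf z) := by
    obtain ⟨k, hk⟩ := hQp ⟨z, hzQ⟩
    have hk' : z ^ 3 ^ k = 1 := congrArg Subtype.val hk
    have h1 : orderOf z ∣ 3 ^ k := orderOf_dvd_of_pow_eq_one hk'
    exact Odd.of_dvd_nat (Odd.pow (by decide)) h1
  -- a `2`-element of `N(Q)` outside `M`
  obtain ⟨g, hgN, hgM⟩ : ∃ g ∈ Subgroup.normalizer (Q : Set G), g ∉ M := by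
    by_contra hcon
    push Not at hcon
    have h1 : Subgroup.normalizer (Q : Set G) ≤ M := hcon
    rw [sup_eq_right.2 h1] at hFr
    exact htM (hFr ▸ Subgroup.mem_top t)
  obtain ⟨k, m, hm, hkm⟩ := Nat.exists_eq_two_pow_mul_odd (orderOf_pos g).ne'
  set t₁ := g ^ m with ht₁
  have ht₁N : t₁ ∈ Subgroup.normalizer (Q : Set G) := Subgroup.pow_mem _ hgN m
  have ht₁2 : t₁ ^ 2 ^ k = 1 := by
    rw [ht₁, ← pow_mul, mul_comm, ← hkm, pow_orderOf_eq_one]
  have ht₁M : t₁ ∉ M := by
    intro h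
    have h1 : sg g ^ m = 1 := by rw [← map_pow]; exact h
    rcases Int.units_eq_one_or (sg g) with h2 | h2
    · exact hgM h2
    · rw [h2, hm.neg_one_pow] at h1
      exact absurd h1 (by decide)
  have ht₁C : t₁ ∉ C := fun h => ht₁M (hCM h)
  set D : Subgroup G := Q ⊔ Subgroup.zpowers t₁ with hD
  have hDN : D ≤ Subgroup.normalizer (Q : Set G) :=
    sup_le Subgroup.le_normalizer (Subgroup.zpowers_le.2 ht₁N)
  have hzD : z ∈ D := (le_sup_left : Q ≤ D) hzQ
  have ht₁D : t₁ ∈ D := (le_sup_right : Subgroup.zpowers t₁ ≤ D) (Subgroup.mem_zpowers t₁)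
  -- `U ∩ Q = 1`
  have hUQ : ∀ a, a ∈ U → a ∈ Q → a = 1 := by
    intro a haU haQ
    obtain ⟨k, hk⟩ := hQp ⟨a, haQ⟩
    have hk' : a ^ 3 ^ k = 1 := congrArg Subtype.val hk
    have h4 : a ^ 4 = 1 := by
      have := pow_card_eq_one' (G := ↥U) (x := ⟨a, haU⟩)
      rw [hU] at this
      exact congrArg Subtype.val this
    have h3 := pow_gcd_eq_one.2 ⟨hk', h4⟩
    have h5 : Nat.gcd (3 ^ k) 4 = 1 := Nat.Coprime.pow_left k (by norm_num)
    rwa [h5, pow_one] at h3
  -- `U ∩ D = 1`
  have hUD : U ⊓ D = ⊥ := by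
    rw [eq_bot_iff]
    rintro x ⟨hxU, hxD⟩
    rw [Subgroup.mem_bot]
    by_contra hx1
    have hxz : Commute z x := by
      have h1 : x * z * x⁻¹ ∈ Q := (Subgroup.mem_normalizer_iff.1 (hDN hxD) z).1 hzQ
      have h2 : x * z * x⁻¹ * z⁻¹ ∈ Q := Q.mul_mem h1 (Q.inv_mem hzQ)
      have h3 : x * z * x⁻¹ * z⁻¹ ∈ U := by
        have : x * z * x⁻¹ * z⁻¹ = x * (z * x⁻¹ * z⁻¹) := by group
        rw [this]
        exact U.mul_mem hxU (hUn.conj_mem _ (U.inv_mem hxU) z)
      have h4 := hUQ _ h3 h2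
      show z * x = x * z
      calc z * x = (x * z * x⁻¹ * z⁻¹)⁻¹ * (x * z) := by group
        _ = x * z := by rw [h4]; group
    apply hzC
    rw [hC, Subgroup.mem_centralizer_iff]
    intro w hw
    exact (centralizes_of_fix U hU z (fun u hu => hUn.conj_mem u hu z) hzodd x hxU hx1 hxz w hw).symm
  -- divisibility of `C.relIndex D`
  have h6 : 6 ∣ C.relIndex D := by
    have hn : (C.subgroupOf D).Normal := inferInstance
    have h3 : 3 ∣ Nat.card (↥D ⧸ C.subgroupOf D) := by
      have ho : orderOf ((⟨z, hzD⟩ : ↥D) : ↥D ⧸ C.subgroupOf D) = 3 := by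
        apply orderOf_eq_prime
        · rw [← QuotientGroup.mk_pow, QuotientGroup.eq_one_iff, Subgroup.mem_subgroupOf]
          exact hcube z (hQM hzQ)
        · rw [Ne, QuotientGroup.eq_one_iff, Subgroup.mem_subgroupOf]
          exact hzC
      rw [← ho]
      exact orderOf_dvd_natCard _
    have h2 : 2 ∣ Nat.card (↥D ⧸ C.subgroupOf D) := by
      set τ := ((⟨t₁, ht₁D⟩ : ↥D) : ↥D ⧸ C.subgroupOf D) with hτ
      have h1 : τ ^ 2 ^ k = 1 := by
        rw [hτ, ← QuotientGroup.mk_pow, QuotientGroup.eq_one_iff, Subgroup.mem_subgroupOf]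
        show t₁ ^ 2 ^ k ∈ C
        rw [ht₁2]
        exact C.one_mem
      have hne : τ ≠ 1 := by
        rw [hτ, Ne, QuotientGroup.eq_one_iff, Subgroup.mem_subgroupOf]
        exact ht₁C
      have hd : orderOf τ ∣ 2 ^ k := orderOf_dvd_of_pow_eq_one h1
      obtain ⟨j, -, hoj⟩ := (Nat.dvd_prime_pow Nat.prime_two).1 hd
      have hj : j ≠ 0 := by
        rintro rfl
        rw [pow_zero, orderOf_eq_one_iff] at hoj
        exact hne hoj
      have h5 : 2 ∣ orderOf τ := by rw [hoj]; exact dvd_pow_self 2 hj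
      exact h5.trans (orderOf_dvd_natCard _)
    exact Nat.Coprime.mul_dvd_of_dvd_of_dvd (by norm_num : Nat.Coprime 2 3) h2 h3
  set K₀ : Subgroup G := U ⊔ D with hK₀
  have hDK : D ≤ K₀ := le_sup_right
  have hUK : U ≤ K₀ := le_sup_left
  have hidx : D.relIndex K₀ = 4 := by
    have h1 : U.relIndex K₀ = U.relIndex D := Subgroup.relIndex_sup_left _ _
    have h2 : U.relIndex D = Nat.card D := by
      rw [← Subgroup.inf_relIndex_right, hUD, Subgroup.relIndex_bot_left]
    have h3 := card_mul_relIndex hUK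
    have h4 := card_mul_relIndex hDK
    rw [h1, h2, hU] at h3
    have hpos : 0 < Nat.card D := Nat.card_pos
    apply Nat.eq_of_mul_eq_mul_left hpos
    rw [h4, ← h3, mul_comm]
  set D' := D.subgroupOf K₀ with hD'
  let f : ↥K₀ →* Equiv.Perm (↥K₀ ⧸ D') := MulAction.toPermHom ↥K₀ (↥K₀ ⧸ D')
  have hcardq : Nat.card (↥K₀ ⧸ D') = 4 := hidx
  have hkerf : f.ker = D'.normalCore := (Subgroup.normalCore_eq_ker D').symm
  have hkerle : f.ker ≤ (C ⊓ D).subgroupOf K₀ := by
    intro n hn
    rw [hkerf] at hn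
    have hnD : (n : G) ∈ D := Subgroup.normalCore_le D' hn
    rw [Subgroup.mem_subgroupOf]
    refine ⟨?_, hnD⟩
    show (n : G) ∈ Subgroup.centralizer (U : Set G)
    rw [Subgroup.mem_centralizer_iff]
    intro u hu
    have hnc : (D'.normalCore).Normal := inferInstance
    let u' : ↥K₀ := ⟨u, hUK hu⟩
    have h1 : n * (u' * n⁻¹ * u'⁻¹) ∈ D'.normalCore :=
      mul_mem hn (hnc.conj_mem _ (inv_mem hn) u')
    have h2 : (n : G) * (u * (n : G)⁻¹ * u⁻¹) ∈ D := Subgroup.normalCore_le D' h1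
    have h3 : (n : G) * (u * (n : G)⁻¹ * u⁻¹) ∈ U := by
      have : (n : G) * (u * (n : G)⁻¹ * u⁻¹) = ((n : G) * u * (n : G)⁻¹) * u⁻¹ := by group
      rw [this]
      exact U.mul_mem (hUn.conj_mem u hu _) (U.inv_mem hu)
    have h4 : (n : G) * (u * (n : G)⁻¹ * u⁻¹) = 1 := by
      have h5 : (n : G) * (u * (n : G)⁻¹ * u⁻¹) ∈ U ⊓ D := ⟨h3, h2⟩
      rw [hUD] at h5
      exact h5
    calc u * (n : G) = ((n : G) * (u * (n : G)⁻¹ * u⁻¹))⁻¹ * ((n : G) * u) := by group
      _ = (n : G) * u := by rw [h4]; group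
  have h24 : 24 ∣ f.ker.index := by
    have h1 := Subgroup.relIndex_mul_index hkerle
    have h2 : ((C ⊓ D).subgroupOf K₀).index = (C ⊓ D).relIndex K₀ := rfl
    have h3 := Subgroup.relIndex_mul_relIndex (C ⊓ D) D K₀ inf_le_right hDK
    rw [Subgroup.inf_relIndex_right, hidx] at h3
    rw [← h1, h2, ← h3]
    obtain ⟨c, hc⟩ := h6
    rw [hc]
    exact ⟨f.ker.relIndex ((C ⊓ D).subgroupOf K₀) * c, by ring⟩
  have hcardperm : Nat.card (Equiv.Perm (↥K₀ ⧸ D')) = 24 := by
    rw [Nat.card_perm, hcardq]; rfl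
  have hsurj : Function.Surjective f := by
    rw [← MonoidHom.range_eq_top]
    apply Subgroup.eq_top_of_le_card
    rw [hcardperm, ← Subgroup.index_ker]
    exact Nat.le_of_dvd (Nat.pos_of_ne_zero (Subgroup.index_ne_zero_of_finite)) h24
  let e4 : (↥K₀ ⧸ D') ≃ Fin 4 := Finite.equivFinOfCardEq hcardq
  exact involves_of_surjective K₀ (e4.permCongrHom.toMonoidHom.comp f)
    (e4.permCongrHom.surjective.comp hsurj)

/-- **The `S₄`-section lemma.** If a `2`-element and an element of odd order both normalize and do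
not centralize a subgroup `U` of order four, then `S₄` is involved in `G`. -/
theorem involves_perm4_of_fourGroup [Finite G] (U : Subgroup G) (hU : Nat.card U = 4) (t y : G)
    (ht : t ∈ Subgroup.normalizer (U : Set G)) (hy : y ∈ Subgroup.normalizer (U : Set G))
    (ht2 : ∃ k : ℕ, t ^ 2 ^ k = 1) (hyodd : Odd (orderOf y))
    (htU : t ∉ Subgroup.centralizer (U : Set G)) (hyU : y ∉ Subgroup.centralizer (U : Set G)) :
    Involves (Equiv.Perm (Fin 4)) G := by
  set L := Subgroup.normalizer (U : Set G) with hL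
  have hUL : U ≤ L := Subgroup.le_normalizer
  have hn : (U.subgroupOf L).Normal := Subgroup.normal_in_normalizer
  have hcard : Nat.card (U.subgroupOf L) = 4 := by
    rw [Nat.card_congr (Subgroup.subgroupOfEquivOfLe hUL).toEquiv, hU]
  have key : ∀ a : ↥L, a ∈ Subgroup.centralizer ((U.subgroupOf L : Subgroup ↥L) : Set ↥L) →
      (a : G) ∈ Subgroup.centralizer (U : Set G) := by
    intro a ha
    rw [Subgroup.mem_centralizer_iff] at ha ⊢
    intro u hu
    exact congrArg Subtype.val (ha ⟨u, hUL hu⟩ (Subgroup.mem_subgroupOf.2 hu))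
  apply involves_subgroup L
  refine involves_perm4_of_normal (U.subgroupOf L) hcard ⟨t, ht⟩ ⟨y, hy⟩ ?_ ?_
    (fun h => htU (key _ h)) (fun h => hyU (key _ h))
  · obtain ⟨k, hk⟩ := ht2
    exact ⟨k, Subtype.ext hk⟩
  · rwa [Subgroup.orderOf_mk]

end Cfsg.Agent.Lib.Helper46.S4Section
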