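import Mathlib
import Cfsg.Prelude.Def_IsolatedElements
import Cfsg.Agent.Lib.Lead.Cores
import Cfsg.Agent.Lib.Helper49.Isolated
import Cfsg.Agent.Lib.Helper33.Frattini

/-!
Minimal counterexamples `(G, x)` to the `Z*_p` statement: basic structure.
-/

set_option autoImplicit false
set_option linter.unusedSectionVars false

namespace Cfsg.Agent.Lib.Helper46.ZStarMin

open Cfsg Subgroup

variable {G : Type*} [Group G]

/-- The hypotheses of a minimal counterexample to the `Z*_p` statement. -/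
structure MinCE (p : ℕ) (x : G) : Prop where
  ord : orderOf x = p
  iso : Cfsg.IsIsolated x
  nz : ¬ Cfsg.InZStar p x
  min : ∀ (H : Subgroup G) (hxH : x ∈ H), H ≠ ⊤ → Cfsg.InZStar p (⟨x, hxH⟩ : ↥H)
  quot : ∀ (N : Subgroup G) [N.Normal], N ≠ ⊥ → Cfsg.InZStar p (QuotientGroup.mk x : G ⧸ N)

theorem normal_sup_zpowers (M : Subgroup G) [hM : M.Normal] (x : G)
    (h : ∀ g : G, g * x * g⁻¹ * x⁻¹ ∈ M) : (M ⊔ zpowers x).Normal := by
  refine ⟨fun n hn g => ?_⟩
  have h1 : M ⊔ zpowers x ≤ (M ⊔ zpowers x).comap (MulAut.conj g).toMonoidHom := by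
    refine sup_le ?_ ?_
    · intro m hm
      exact mem_sup_left (hM.conj_mem m hm g)
    · rw [zpowers_le]
      show g * x * g⁻¹ ∈ M ⊔ zpowers x
      have : g * x * g⁻¹ = (g * x * g⁻¹ * x⁻¹) * x := by group
      rw [this]
      exact mul_mem (mem_sup_left (h g)) (mem_sup_right (mem_zpowers x))
  exact h1 hn

/-- A `p'`-subgroup that is normal in a normal subgroup lies in `O_{p'}(G)`. -/
theorem le_pPrimeCore_of_normal_normal [Finite G] {p : ℕ} (N : Subgroup G) [N.Normal] (K : Subgroup G)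
    (hKN : K ≤ N) (hn : N ≤ normalizer (K : Set G)) (hc : (Nat.card K).Coprime p) :
    K ≤ pPrimeCore p G := by
  have h1 : (K.subgroupOf N).Normal := (normal_subgroupOf_iff_le_normalizer hKN).2 hn
  have h2 : Nat.card (K.subgroupOf N) = Nat.card K :=
    Nat.card_congr (subgroupOfEquivOfLe hKN).toEquiv
  have h3 : K.subgroupOf N ≤ pPrimeCore p N := Lib.Lead.le_pPrimeCore h1 (h2 ▸ hc)
  have h4 := Subgroup.map_mono (f := N.subtype) h3
  rw [map_subgroupOf_eq_of_le hKN] at h4
  exact h4.trans (Lib.Lead.pPrimeCore_normal_subgroup_le N)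

variable [Finite G] {p : ℕ} [hp : Fact p.Prime] {x : G}

namespace MinCE

theorem pPrimeCore_eq_bot (h : MinCE p x) : pPrimeCore p G = ⊥ := by
  by_contra hne
  apply h.nz
  intro g
  have h1 := h.quot (pPrimeCore p G) hne (QuotientGroup.mk g)
  rw [Lib.Lead.pPrimeCore_quotient_pPrimeCore, mem_bot] at h1
  exact (QuotientGroup.eq_one_iff _).1 h1

theorem not_central (h : MinCE p x) : ¬ ∀ g : G, g * x * g⁻¹ = x := by
  intro hc
  apply h.nz
  intro g
  rw [hc g, mul_inv_cancel]
  exact one_mem _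

theorem eq_bot_of_normal_coprime (h : MinCE p x) (N : Subgroup G) [hN : N.Normal]
    (hc : (Nat.card N).Coprime p) : N = ⊥ :=
  le_bot_iff.1 (h.pPrimeCore_eq_bot ▸ Lib.Lead.le_pPrimeCore hN hc)

/-- A normal subgroup containing `x` is the whole group. -/
theorem eq_top_of_normal (h : MinCE p x) (C : Subgroup G) [hC : C.Normal] (hxC : x ∈ C) : C = ⊤ := by
  by_contra hne
  apply h.not_central
  have h1 := h.min C hxC hne
  have h2 : ∀ c ∈ C, c * x * c⁻¹ * x⁻¹ = 1 := by
    intro c hc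
    have h3 := h1 ⟨c, hc⟩
    have h4 : (c * x * c⁻¹ * x⁻¹) ∈ (pPrimeCore p C).map C.subtype := ⟨_, h3, rfl⟩
    have h5 := Lib.Lead.pPrimeCore_normal_subgroup_le C h4
    rwa [h.pPrimeCore_eq_bot, mem_bot] at h5
  intro g
  apply h.iso g
  have h3 := h2 (g * x * g⁻¹) (hC.conj_mem x hxC g)
  have h4 : (g * x * g⁻¹) * x = x * (g * x * g⁻¹) := by
    have := mul_inv_eq_one.1 h3
    calc (g * x * g⁻¹) * x = ((g * x * g⁻¹) * x * (g * x * g⁻¹)⁻¹) * (g * x * g⁻¹) := by group
      _ = x * (g * x * g⁻¹) := by rw [this]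
  exact h4.symm

theorem isPGroup_zpowers (h : MinCE p x) : IsPGroup p (zpowers x) := by
  apply IsPGroup.of_card (n := 1)
  rw [Nat.card_zpowers, h.ord, pow_one]

theorem pow_p (h : MinCE p x) : ∃ k : ℕ, x ^ p ^ k = 1 :=
  ⟨1, by rw [pow_one, ← h.ord, pow_orderOf_eq_one]⟩

/-- if `x` centralizes a normal subgroup, the subgroup is central. -/
theorem le_center_of_commute (h : MinCE p x) (N : Subgroup G) [hN : N.Normal]
    (hc : ∀ n ∈ N, n * x = x * n) : N ≤ center G := by
  have h1 : x ∈ centralizer (N : Set G) := by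
    rw [mem_centralizer_iff]
    exact hc
  have h2 := h.eq_top_of_normal (centralizer (N : Set G)) h1
  intro n hn
  rw [mem_center_iff]
  intro g
  have : g ∈ centralizer (N : Set G) := h2 ▸ mem_top g
  exact (mem_centralizer_iff.1 this n hn).symm

/-- There is no central element of order `p`. -/
theorem no_central_p (h : MinCE p x) (z : G) (hz : z ∈ center G) (hzp : orderOf z = p) : False := by
  set Z0 := zpowers z with hZ0
  have hZc : Z0 ≤ center G := zpowers_le.2 hz
  have hZn : Z0.Normal := by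
    refine ⟨fun n hn g => ?_⟩
    have := mem_center_iff.1 (hZc hn) g
    rw [this, mul_inv_cancel_right]
    exact hn
  have hZne : Z0 ≠ ⊥ := by
    intro hb
    rw [hZ0, zpowers_eq_bot] at hb
    rw [hb, orderOf_one] at hzp
    exact hp.out.one_lt.ne hzp
  have hq := h.quot Z0 hZne
  set L := pPrimeCore p (G ⧸ Z0) with hL
  set M := L.comap (QuotientGroup.mk' Z0) with hM
  have hMn : M.Normal := inferInstance
  have hxM : ∀ g : G, g * x * g⁻¹ * x⁻¹ ∈ M := fun g => hq (QuotientGroup.mk g)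
  have hn := normal_sup_zpowers M x hxM
  have htop : M ⊔ zpowers x = ⊤ := h.eq_top_of_normal _ (mem_sup_right (mem_zpowers x))
  have hZM : Z0 ≤ M := by
    intro a ha
    show QuotientGroup.mk' Z0 a ∈ L
    have : QuotientGroup.mk' Z0 a = 1 := (QuotientGroup.eq_one_iff a).2 ha
    rw [this]
    exact one_mem _
  have hrel : Z0.relIndex M = Nat.card L := by
    have h1 : Z0 = (⊥ : Subgroup (G ⧸ Z0)).comap (QuotientGroup.mk' Z0) := by
      rw [MonoidHom.comap_bot, QuotientGroup.ker_mk']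
    conv_lhs => rw [h1]
    rw [relIndex_comap, hM, map_comap_eq_self_of_surjective (QuotientGroup.mk'_surjective Z0),
      relIndex_bot_left]
  have hsyl : Lib.Helper33.RelSyl p Z0 M := by
    refine ⟨hZM, ?_, ?_⟩
    · apply IsPGroup.of_card (n := 1)
      rw [hZ0, Nat.card_zpowers, hzp, pow_one]
    · rw [hrel]
      exact (Nat.Prime.coprime_iff_not_dvd hp.out).1 (Lib.Lead.card_pPrimeCore_coprime p).symm
  have hcent : M ≤ centralizer (Z0 : Set G) := by
    intro m _
    rw [mem_centralizer_iff]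
    intro a ha
    exact (mem_center_iff.1 (hZc ha) m).symm
  have hMZ : M ≤ Z0 := by
    by_contra hne
    obtain ⟨D, hDn, hDne, hDc, -⟩ := Lib.Helper33.exists_normal_p'_of_central_sylow hsyl hcent hne
    exact hDne (h.eq_bot_of_normal_coprime D hDc)
  apply h.not_central
  have h1 : (⊤ : Subgroup G) ≤ centralizer {x} := by
    rw [← htop]
    refine sup_le (hMZ.trans (hZc.trans (center_le_centralizer _))) ?_
    rw [zpowers_le, mem_centralizer_singleton_iff]
  intro g
  have := mem_centralizer_singleton_iff.1 (h1 (mem_top g))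
  rw [this, mul_inv_cancel_right]

theorem exists_orderOf_eq_of_ne_bot (h : MinCE p x) (N : Subgroup G) [hN : N.Normal] (hne : N ≠ ⊥) :
    ∃ z ∈ N, orderOf z = p := by
  have h1 : p ∣ Nat.card N := by
    by_contra hnd
    exact hne (h.eq_bot_of_normal_coprime N ((Nat.Prime.coprime_iff_not_dvd hp.out).2 hnd).symm)
  obtain ⟨z, hz⟩ := exists_prime_orderOf_dvd_card' p h1
  exact ⟨z, z.2, by rwa [Subgroup.orderOf_coe]⟩

/-- `x` does not centralize any nontrivial normal subgroup. -/
theorem eq_bot_of_commute (h : MinCE p x) (N : Subgroup G) [hN : N.Normal]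
    (hc : ∀ n ∈ N, n * x = x * n) : N = ⊥ := by
  by_contra hne
  obtain ⟨z, hzN, hz⟩ := h.exists_orderOf_eq_of_ne_bot N hne
  exact h.no_central_p z (h.le_center_of_commute N hc hzN) hz

theorem pCore_eq_bot (h : MinCE p x) : pCore p G = ⊥ := by
  have hn : (pCore p G).Normal := Lib.Lead.pCore_normal' p G
  apply h.eq_bot_of_commute
  have hP : IsPGroup p (pCore p G ⊔ zpowers x : Subgroup G) :=
    IsPGroup.to_sup_of_normal_left (Lib.Lead.pCore_isPGroup p G) h.isPGroup_zpowers
  intro n hn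
  exact Lib.Helper49.isolated_central hP (mem_sup_right (mem_zpowers x)) h.iso n (mem_sup_left hn)

/-- Every nontrivial normal subgroup together with `x` generates `G`. -/
theorem sup_zpowers_eq_top (h : MinCE p x) (N : Subgroup G) [hN : N.Normal] (hne : N ≠ ⊥) :
    N ⊔ zpowers x = ⊤ := by
  by_contra hH
  apply hne
  apply h.eq_bot_of_commute
  set H := N ⊔ zpowers x with hHdef
  have hxH : x ∈ H := mem_sup_right (mem_zpowers x)
  have hNH : N ≤ H := le_sup_left
  have h1 := h.min H hxH hH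
  set O := (pPrimeCore p H).map H.subtype with hO
  set K := O ⊓ N with hK
  have hOc : (Nat.card O).Coprime p :=
    Nat.Coprime.of_dvd_left (Subgroup.card_map_dvd _ _) (Lib.Lead.card_pPrimeCore_coprime p)
  have hKc : (Nat.card K).Coprime p := Nat.Coprime.of_dvd_left (Subgroup.card_dvd_of_le inf_le_left) hOc
  have hOn : ∀ a ∈ H, ∀ b ∈ O, a * b * a⁻¹ ∈ O := by
    rintro a ha _ ⟨b, hb, rfl⟩
    have hn : (pPrimeCore p H).Normal := inferInstance
    exact ⟨⟨a, ha⟩ * b * ⟨a, ha⟩⁻¹, hn.conj_mem b hb _, rfl⟩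
  have hKn : N ≤ normalizer (K : Set G) := by
    rw [le_normalizer_iff]
    intro a ha b hb
    exact ⟨hOn a (hNH ha) b hb.1, hN.conj_mem b hb.2 a⟩
  have hKbot : K ≤ ⊥ := h.pPrimeCore_eq_bot ▸ le_pPrimeCore_of_normal_normal N K inf_le_right hKn hKc
  intro n hn
  have h2 : n * x * n⁻¹ * x⁻¹ ∈ K := by
    refine ⟨⟨_, h1 ⟨n, hNH hn⟩, rfl⟩, ?_⟩
    have : n * x * n⁻¹ * x⁻¹ = n * (x * n⁻¹ * x⁻¹) := by group
    rw [this]
    exact N.mul_mem hn (hN.conj_mem _ (N.inv_mem hn) x)
  have h3 := mem_bot.1 (hKbot h2)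
  have h4 := mul_inv_eq_one.1 h3
  calc n * x = (n * x * n⁻¹) * n := by group
    _ = x * n := by rw [h4]

end MinCE

end Cfsg.Agent.Lib.Helper46.ZStarMin
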